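import Cfsg.Agent.H88.StUDefs

/-!
helper30 (for helper88, S2546-GEN): unitary Gaussian elimination. A subgroup of `UG n φ`
containing the unitriangular subgroup, the diagonal elements and a monomial element for every
simple reflection is the whole group.
-/

set_option autoImplicit false
set_option linter.unusedSectionVars false
set_option linter.unusedVariables false

namespace Cfsg.Agent.Lib.Helper30.StU

open Matrix Cfsg.Agent.H88.Un Cfsg.Agent.H88.StU Cfsg.Agent.H78.StSL Cfsg.Agent.H50.AutPSL

variable {n : ℕ} {K : Type*} [Field K]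

/-- The first `j` columns are upper triangular. -/
def Tri (j : ℕ) (M : Matrix (Fin n) (Fin n) K) : Prop :=
  ∀ a b : Fin n, b.val < j → b < a → M a b = 0

theorem tri_one (j : ℕ) : Tri j (1 : Matrix (Fin n) (Fin n) K) := fun a b _ hba =>
  Matrix.one_apply_ne (ne_of_gt hba)

theorem tri_mul_of_ut {j : ℕ} {x M : Matrix (Fin n) (Fin n) K}
    (hx : ∀ a k : Fin n, k < a → x a k = 0) (hM : Tri j M) : Tri j (x * M) := by
  intro a b hb hba
  rw [Matrix.mul_apply]
  apply Finset.sum_eq_zero
  intro k _
  by_cases hk : k < a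
  · rw [hx a k hk, zero_mul]
  · rw [hM k b hb (lt_of_lt_of_le hba (not_lt.1 hk)), mul_zero]

theorem tri_mul {j : ℕ} {M N : Matrix (Fin n) (Fin n) K} (hM : Tri j M) (hN : Tri j N) :
    Tri j (M * N) := by
  intro a b hb hba
  rw [Matrix.mul_apply]
  apply Finset.sum_eq_zero
  intro k _
  by_cases hk : b < k
  · rw [hN k b hb hk, mul_zero]
  · have hkb : k ≤ b := not_lt.1 hk
    have hkb' : k.val ≤ b.val := hkb
    rw [hM a k (lt_of_le_of_lt hkb' hb) (lt_of_le_of_lt hkb hba), zero_mul]

theorem mono_mul_apply_zero {s : Equiv.Perm (Fin n)} {N M : Matrix (Fin n) (Fin n) K}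
    (hN : IsMono s N) (a c : Fin n) (h : ∀ k, a = s k → M k c = 0) : (N * M) a c = 0 := by
  rw [Matrix.mul_apply]
  apply Finset.sum_eq_zero
  intro k _
  by_cases hk : a = s k
  · rw [h k hk, mul_zero]
  · rw [hN a k hk, zero_mul]

theorem tri_mono_mul {j : ℕ} {s : Equiv.Perm (Fin n)} {N M : Matrix (Fin n) (Fin n) K}
    (hN : IsMono s N) (hs : ∀ k : Fin n, k.val < j → s k = k) (hM : Tri j M) :
    Tri j (N * M) := by
  intro a b hb hba
  apply mono_mul_apply_zero hN
  intro k hk
  apply hM k b hb
  by_contra hbk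
  have hkb : k ≤ b := not_lt.1 hbk
  have hkb' : k.val ≤ b.val := hkb
  have h1 : s k = k := hs k (lt_of_le_of_lt hkb' hb)
  rw [h1] at hk
  rw [hk] at hba
  exact absurd hba (not_lt.2 hkb)

theorem single_mul_apply_ite (i j : Fin n) (t : K) (M : Matrix (Fin n) (Fin n) K)
    (a c : Fin n) : (Matrix.single i j t * M) a c = if a = i then t * M j c else 0 := by
  by_cases h : a = i
  · rw [if_pos h, h, Matrix.single_mul_apply_same]
  · rw [if_neg h, Matrix.single_mul_apply_of_ne _ _ _ _ _ h]

theorem sum_eq_three (f : Fin n → K) (a b c : Fin n) (hab : a ≠ b) (hac : a ≠ c) (hbc : b ≠ c)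
    (h : ∀ k, k ≠ a → k ≠ b → k ≠ c → f k = 0) : ∑ k, f k = f a + f b + f c := by
  rw [← Finset.sum_subset (Finset.subset_univ ({a, b, c} : Finset (Fin n)))]
  · rw [Finset.sum_insert, Finset.sum_insert, Finset.sum_singleton, add_assoc]
    all_goals simp [hab, hac, hbc]
  · intro k _ hk
    simp only [Finset.mem_insert, Finset.mem_singleton, not_or] at hk
    exact h k hk.1 hk.2.1 hk.2.2

/-! ### Values of the simple reflections -/

theorem sref_val_short (i : Fin (n / 2)) (h : i.val + 1 < n / 2) (k : Fin n) :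
    (sref n i k).val = if k.val = i.val then i.val + 1 else if k.val = i.val + 1 then i.val
      else if k.val = n - 1 - i.val then n - 2 - i.val
      else if k.val = n - 2 - i.val then n - 1 - i.val else k.val := by
  have h2 : 2 * (n / 2) ≤ n := Nat.mul_div_le n 2
  have hk := k.2
  rw [sref, dif_pos h, Equiv.Perm.mul_apply, Equiv.swap_apply_def, Equiv.swap_apply_def]
  split_ifs <;> simp only [Fin.ext_iff, pr_val, rev_val] at * <;> omega

theorem sref_val_long (i : Fin (n / 2)) (h : ¬ i.val + 1 < n / 2) (k : Fin n) :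
    (sref n i k).val = if k.val = i.val then n - 1 - i.val
      else if k.val = n - 1 - i.val then i.val else k.val := by
  have h2 : 2 * (n / 2) ≤ n := Nat.mul_div_le n 2
  have hk := k.2
  rw [sref, dif_neg h, Equiv.swap_apply_def]
  split_ifs <;> simp only [Fin.ext_iff, pr_val, rev_val] at * <;> omega

/-! ### Facts about `UG n φ` -/

variable [Fintype K] {φ : K →+* K}

theorem tri_pow {j : ℕ} (g : UG n φ) (hg : Tri j g.1.1) (k : ℕ) : Tri j (g ^ k).1.1 := by
  induction k with
  | zero => rw [pow_zero]; exact tri_one j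
  | succ k ih => rw [pow_succ]; exact tri_mul ih hg

theorem tri_inv {j : ℕ} (g : UG n φ) (hg : Tri j g.1.1) : Tri j (g⁻¹).1.1 := by
  have h1 : g⁻¹ = g ^ (orderOf g - 1) := by
    apply inv_eq_of_mul_eq_one_right
    rw [← pow_succ', Nat.sub_add_cancel (orderOf_pos g), pow_orderOf_eq_one]
  rw [h1]
  exact tri_pow g hg _

/-- The last `j` rows are triangular as well. -/
theorem tri_rows {j : ℕ} (g : UG n φ) (hg : Tri j g.1.1) (a c : Fin n) (hca : c < a)
    (ha : n ≤ a.val + j) : g.1.1 a c = 0 := by
  have h1 : g.1.1 = adj φ (g⁻¹).1.1 := by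
    rw [← inv_val, inv_inv]
  have h2 : (g⁻¹).1.1 c.rev a.rev = 0 := by
    apply tri_inv g hg
    · rw [rev_val]
      have := a.2
      omega
    · exact Fin.rev_lt_rev.2 hca
  rw [h1, adj_apply, h2, map_zero]

theorem mem_PL_of_tri {j : ℕ} (hj : n ≤ 2 * j + 1) (g : UG n φ) (hg : Tri j g.1.1) :
    g ∈ PL φ (rk n) := by
  intro a c hca
  have hca' : c.val < a.val := hca
  have hca'' : c < a := hca
  by_cases hc : c.val < j
  · exact hg a c hc hca''
  · apply tri_rows g hg a c hca''
    omega

theorem isotropy (g : UG n φ) (c : Fin n) (hc : c.rev ≠ c) :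
    ∑ a : Fin n, φ (g.1.1 a.rev c) * g.1.1 a c = 0 := by
  have h := congrFun (congrFun (adj_mul_self g) c.rev) c
  rw [Matrix.mul_apply, Matrix.one_apply_ne hc] at h
  rw [← h]
  apply Finset.sum_congr rfl
  intro a _
  rw [adj_apply, Fin.rev_rev]

theorem xs_mul_apply [Invol φ] {i j : Fin n} (hij : i ≠ j) (hi : i ≠ i.rev) (hj : j ≠ j.rev)
    (t : K) (M : Matrix (Fin n) (Fin n) K) (a c : Fin n) :
    ((xs (φ := φ) hij hi hj t).1.1 * M) a c =
      M a c + (if a = i then t * M j c else 0) - (if a = j.rev then φ t * M i.rev c else 0) := by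
  rw [xs_val, Matrix.sub_mul, Matrix.add_mul, Matrix.one_mul, Matrix.sub_apply, Matrix.add_apply,
    single_mul_apply_ite, single_mul_apply_ite]

theorem xl_mul_apply [Invol φ] {i : Fin n} (hi : i ≠ i.rev) (t : K) (ht : t + φ t = 0)
    (M : Matrix (Fin n) (Fin n) K) (a c : Fin n) :
    ((xl (φ := φ) hi t ht).1.1 * M) a c = M a c + (if a = i then t * M i.rev c else 0) := by
  rw [xl_val, Matrix.add_mul, Matrix.one_mul, Matrix.add_apply, single_mul_apply_ite]

theorem xb_mul_apply [Invol φ] {i m : Fin n} (hm : m.rev = m) (hi : i ≠ m) (t d : K)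
    (h : d + φ d + t * φ t = 0) (M : Matrix (Fin n) (Fin n) K) (a c : Fin n) :
    ((xb (φ := φ) hm hi t d h).1.1 * M) a c =
      M a c + (if a = i then t * M m c else 0) - (if a = m then φ t * M i.rev c else 0) +
        (if a = i then d * M i.rev c else 0) := by
  rw [xb_val, Matrix.add_mul, Matrix.sub_mul, Matrix.add_mul, Matrix.one_mul, Matrix.add_apply,
    Matrix.sub_apply, Matrix.add_apply, single_mul_apply_ite, single_mul_apply_ite,
    single_mul_apply_ite]

/-- Generic elimination step: a unitriangular `x` followed by a monomial `N`. -/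
theorem step_aux (L : Subgroup (UG n φ)) (j r : ℕ) (g : UG n φ) (hg : Tri j g.1.1)
    (x N : UG n φ) (hxU : x ∈ EL φ (rk n)) (hxL : x ∈ L) (hNL : N ∈ L)
    (s : Equiv.Perm (Fin n)) (hN : IsMono s N.1.1) (hs : ∀ k : Fin n, k.val < j → s k = k)
    (c : Fin n) (hcol : ∀ k : Fin n, r ≤ (s k).val → (x.1.1 * g.1.1) k c = 0) :
    ∃ y ∈ L, Tri j (y * g).1.1 ∧ ∀ a : Fin n, r ≤ a.val → (y * g).1.1 a c = 0 := by
  have e : (N * x * g).1.1 = N.1.1 * (x.1.1 * g.1.1) := by
    rw [mul_assoc]
    rfl
  refine ⟨N * x, mul_mem hNL hxL, ?_, ?_⟩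
  · rw [e]
    refine tri_mono_mul hN hs (tri_mul_of_ut ?_ hg)
    intro a k hk
    rw [hxU a k (Fin.le_def.1 (le_of_lt hk))]
    exact Matrix.one_apply_ne (ne_of_gt hk)
  · intro a ha
    rw [e]
    apply mono_mul_apply_zero hN
    intro k hk
    apply hcol
    rw [← hk]
    exact ha

theorem alg_C [Invol φ] (A C : K) (hC : C ≠ 0) (iso : φ C * A + φ A * C = 0) :
    -A / C + φ (-A / C) = 0 := by
  have hC' : φ C ≠ 0 := (map_ne_zero φ).2 hC
  have e : -A / C + φ (-A / C) = -(φ C * A + φ A * C) / (C * φ C) := by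
    rw [map_div₀, map_neg]
    field_simp
    ring
  rw [e, iso, neg_zero, zero_div]

theorem alg_D [Invol φ] (A B C : K) (hC : C ≠ 0)
    (iso : φ C * A + φ B * B + φ A * C = 0) :
    (-(A + φ B / φ C * B) / C) + φ (-(A + φ B / φ C * B) / C) +
      (φ B / φ C) * φ (φ B / φ C) = 0 := by
  have hC' : φ C ≠ 0 := (map_ne_zero φ).2 hC
  have e : (-(A + φ B / φ C * B) / C) + φ (-(A + φ B / φ C * B) / C) +
      (φ B / φ C) * φ (φ B / φ C) = -(φ C * A + φ B * B + φ A * C) / (C * φ C) := by
    simp only [map_div₀, map_neg, map_add, map_mul, Invol.invol]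
    field_simp
    ring
  rw [e, iso, neg_zero, zero_div]

/-- The elimination step at row `r`. -/
theorem step [Invol φ] (L : Subgroup (UG n φ)) (hU : EL φ (rk n) ≤ L)
    (hN : ∀ i : Fin (n / 2), ∃ N : UG n φ, N ∈ L ∧ IsMono (sref n i) N.1.1)
    (j : ℕ) (hj : 2 * j + 2 ≤ n) (r : ℕ) (hjr : j < r) (hr : r + j + 1 ≤ n)
    (g : UG n φ) (hg : Tri j g.1.1) (c : Fin n) (hc : c.val = j)
    (hv : ∀ a : Fin n, r < a.val → g.1.1 a c = 0)
    (q : Fin n) (hq : q.val = r) (hvr : g.1.1 q c ≠ 0) :
    ∃ y ∈ L, Tri j (y * g).1.1 ∧ ∀ a : Fin n, r ≤ a.val → (y * g).1.1 a c = 0 := by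
  have hcrev : c.rev ≠ c := by
    intro e
    have := congrArg Fin.val e
    rw [rev_val] at this
    omega
  have iso := isotropy g c hcrev
  rcases lt_trichotomy (2 * r + 1) n with hA | hE | hlt
  · -- Case A : short node in the first half
    obtain ⟨i, hi⟩ : ∃ i : Fin (n / 2), i.val = r - 1 := ⟨⟨r - 1, by omega⟩, rfl⟩
    obtain ⟨N, hNL, hNm⟩ := hN i
    have hsv := sref_val_short i (by omega)
    obtain ⟨p, hp⟩ : ∃ p : Fin n, p.val = r - 1 := ⟨⟨r - 1, by omega⟩, rfl⟩
    have hpq : p ≠ q := fun e => by rw [e] at hp; omega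
    have hpp : p ≠ p.rev := fun e => by
      have := congrArg Fin.val e
      rw [rev_val] at this
      omega
    have hqq : q ≠ q.rev := fun e => by
      have := congrArg Fin.val e
      rw [rev_val] at this
      omega
    have hxU : xs (φ := φ) hpq hpp hqq (-(g.1.1 p c) / g.1.1 q c) ∈ EL φ (rk n) := by
      apply xs_mem_EL
      · show p.val < q.val
        omega
      · show q.rev.val < p.rev.val
        rw [rev_val, rev_val]
        omega
    refine step_aux L j r g hg _ N hxU (hU hxU) hNL _ hNm ?_ c ?_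
    · intro k hk
      apply Fin.ext
      rw [hsv k]
      split_ifs <;> omega
    · intro k hk
      rw [hsv k] at hk
      rw [xs_mul_apply]
      by_cases hkp : k = p
      · have hkq : k ≠ q.rev := fun e => by
          have := congrArg Fin.val e
          rw [rev_val, hkp] at this
          omega
        rw [if_pos hkp, if_neg hkq, sub_zero, hkp, div_mul_cancel₀ _ hvr, add_neg_cancel]
      · have hkv : k.val ≠ r - 1 := fun e => hkp (Fin.ext (by omega))
        have hk' : r < k.val := by
          split_ifs at hk <;> omega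
        rw [if_neg hkp, hv k hk', hv p.rev (by rw [rev_val]; omega), mul_zero]
        simp
  · -- Case E : the middle row, impossible
    exfalso
    apply hvr
    have hqrev : q.rev = q := Fin.ext (by rw [rev_val]; omega)
    rw [Finset.sum_eq_single q] at iso
    · rw [hqrev] at iso
      rcases mul_eq_zero.1 iso with h0 | h0
      · have := congrArg φ h0
        rw [Invol.invol, map_zero] at this
        exact this
      · exact h0
    · intro a _ haq
      have hav : a.val ≠ r := fun e => haq (Fin.ext (by omega))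
      rcases lt_or_gt_of_ne hav with h1 | h1
      · rw [hv a.rev (by rw [rev_val]; omega), map_zero, zero_mul]
      · rw [hv a h1, mul_zero]
    · intro h
      exact absurd (Finset.mem_univ q) h
  · rcases lt_trichotomy (n + 1) (2 * r) with hB | hD | hC
    · -- Case B : short node in the second half
      obtain ⟨i, hi⟩ : ∃ i : Fin (n / 2), i.val = n - 1 - r := ⟨⟨n - 1 - r, by omega⟩, rfl⟩
      obtain ⟨N, hNL, hNm⟩ := hN i
      have hsv := sref_val_short i (by omega)
      obtain ⟨p, hp⟩ : ∃ p : Fin n, p.val = n - 1 - r := ⟨⟨n - 1 - r, by omega⟩, rfl⟩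
      obtain ⟨q₁, hq₁⟩ : ∃ q₁ : Fin n, q₁.val = n - r := ⟨⟨n - r, by omega⟩, rfl⟩
      have hprev : p.rev = q := Fin.ext (by rw [rev_val]; omega)
      have hpq : p ≠ q₁ := fun e => by rw [e] at hp; omega
      have hpp : p ≠ p.rev := fun e => by
        have := congrArg Fin.val e
        rw [rev_val] at this
        omega
      have hqq : q₁ ≠ q₁.rev := fun e => by
        have := congrArg Fin.val e
        rw [rev_val] at this
        omega
      have hxU : xs (φ := φ) hpq hpp hqq (φ (g.1.1 q₁.rev c / g.1.1 q c)) ∈ EL φ (rk n) := by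
        apply xs_mem_EL
        · show p.val < q₁.val
          omega
        · show q₁.rev.val < p.rev.val
          rw [rev_val, rev_val]
          omega
      refine step_aux L j r g hg _ N hxU (hU hxU) hNL _ hNm ?_ c ?_
      · intro k hk
        apply Fin.ext
        rw [hsv k]
        split_ifs <;> omega
      · intro k hk
        rw [hsv k] at hk
        rw [xs_mul_apply]
        by_cases hkq : k = q₁.rev
        · have hkp : k ≠ p := fun e => by
            have := congrArg Fin.val (hkq.symm.trans e)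
            rw [rev_val] at this
            omega
          rw [if_neg hkp, if_pos hkq, hkq, hprev, Invol.invol, div_mul_cancel₀ _ hvr, add_zero,
            sub_self]
        · have hkv : k.val ≠ r - 1 := fun e => hkq (Fin.ext (by rw [rev_val]; omega))
          have hk' : r < k.val := by
            split_ifs at hk <;> omega
          have hkp : k ≠ p := fun e => by rw [e] at hk'; omega
          rw [if_neg hkp, if_neg hkq, hv k hk']
          simp
    · -- Case D : the SU3 node
      obtain ⟨i, hi⟩ : ∃ i : Fin (n / 2), i.val = r - 2 := ⟨⟨r - 2, by omega⟩, rfl⟩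
      obtain ⟨N, hNL, hNm⟩ := hN i
      have hsv := sref_val_long i (by omega)
      obtain ⟨p, hp⟩ : ∃ p : Fin n, p.val = r - 2 := ⟨⟨r - 2, by omega⟩, rfl⟩
      obtain ⟨m, hm⟩ : ∃ m : Fin n, m.val = r - 1 := ⟨⟨r - 1, by omega⟩, rfl⟩
      have hmrev : m.rev = m := Fin.ext (by rw [rev_val]; omega)
      have hpm : p ≠ m := fun e => by rw [e] at hp; omega
      have hpq : p ≠ q := fun e => by rw [e] at hp; omega
      have hmq : m ≠ q := fun e => by rw [e] at hm; omega
      have hprev : p.rev = q := Fin.ext (by rw [rev_val]; omega)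
      have hqrev : q.rev = p := by rw [← hprev, Fin.rev_rev]
      have iso3 : φ (g.1.1 q c) * g.1.1 p c + φ (g.1.1 m c) * g.1.1 m c +
          φ (g.1.1 p c) * g.1.1 q c = 0 := by
        rw [sum_eq_three _ p m q hpm hpq hmq] at iso
        · rw [hprev, hmrev, hqrev] at iso
          exact iso
        · intro a ha1 ha2 ha3
          have h1 : a.val ≠ r - 2 := fun e => ha1 (Fin.ext (by omega))
          have h2 : a.val ≠ r - 1 := fun e => ha2 (Fin.ext (by omega))
          have h3 : a.val ≠ r := fun e => ha3 (Fin.ext (by omega))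
          by_cases h4 : a.val < r
          · rw [hv a.rev (by rw [rev_val]; omega), map_zero, zero_mul]
          · rw [hv a (by omega), mul_zero]
      have hd := alg_D (φ := φ) (g.1.1 p c) (g.1.1 m c) (g.1.1 q c) hvr iso3
      have hxU : xb (φ := φ) hmrev hpm (φ (g.1.1 m c) / φ (g.1.1 q c))
          (-(g.1.1 p c + φ (g.1.1 m c) / φ (g.1.1 q c) * g.1.1 m c) / g.1.1 q c) hd ∈
          EL φ (rk n) := by
        apply xb_mem_EL
        · show p.val < m.val
          omega
        · show m.val < p.rev.val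
          rw [rev_val]
          omega
      refine step_aux L j r g hg _ N hxU (hU hxU) hNL _ hNm ?_ c ?_
      · intro k hk
        apply Fin.ext
        rw [hsv k]
        split_ifs <;> omega
      · intro k hk
        rw [hsv k] at hk
        rw [xb_mul_apply]
        by_cases hkp : k = p
        · have hkm : k ≠ m := fun e => hpm (hkp.symm.trans e)
          rw [if_pos hkp, if_neg hkm, if_pos hkp, hkp, hprev, sub_zero, div_mul_cancel₀ _ hvr]
          ring
        · have hkv : k.val ≠ r - 2 := fun e => hkp (Fin.ext (by omega))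
          have hk' : r < k.val := by
            split_ifs at hk <;> omega
          have hkm : k ≠ m := fun e => by rw [e] at hk'; omega
          rw [if_neg hkp, if_neg hkm, if_neg hkp, hv k hk']
          simp
    · -- Case C : the long node
      obtain ⟨i, hi⟩ : ∃ i : Fin (n / 2), i.val = r - 1 := ⟨⟨r - 1, by omega⟩, rfl⟩
      obtain ⟨N, hNL, hNm⟩ := hN i
      have hsv := sref_val_long i (by omega)
      obtain ⟨p, hp⟩ : ∃ p : Fin n, p.val = r - 1 := ⟨⟨r - 1, by omega⟩, rfl⟩
      have hpq : p ≠ q := fun e => by rw [e] at hp; omega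
      have hprev : p.rev = q := Fin.ext (by rw [rev_val]; omega)
      have hqrev : q.rev = p := by rw [← hprev, Fin.rev_rev]
      have hpp : p ≠ p.rev := by rw [hprev]; exact hpq
      have iso2 : φ (g.1.1 q c) * g.1.1 p c + φ (g.1.1 p c) * g.1.1 q c = 0 := by
        rw [Fintype.sum_eq_add p q hpq] at iso
        · rw [hprev, hqrev] at iso
          exact iso
        · rintro a ⟨ha1, ha2⟩
          have h1 : a.val ≠ r - 1 := fun e => ha1 (Fin.ext (by omega))
          have h3 : a.val ≠ r := fun e => ha2 (Fin.ext (by omega))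
          by_cases h4 : a.val < r
          · rw [hv a.rev (by rw [rev_val]; omega), map_zero, zero_mul]
          · rw [hv a (by omega), mul_zero]
      have ht := alg_C (φ := φ) (g.1.1 p c) (g.1.1 q c) hvr iso2
      have hxU : xl (φ := φ) hpp (-(g.1.1 p c) / g.1.1 q c) ht ∈ EL φ (rk n) := by
        apply xl_mem_EL
        show p.val < p.rev.val
        rw [rev_val]
        omega
      refine step_aux L j r g hg _ N hxU (hU hxU) hNL _ hNm ?_ c ?_
      · intro k hk
        apply Fin.ext
        rw [hsv k]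
        split_ifs <;> omega
      · intro k hk
        rw [hsv k] at hk
        rw [xl_mul_apply]
        by_cases hkp : k = p
        · rw [if_pos hkp, hkp, hprev, div_mul_cancel₀ _ hvr, add_neg_cancel]
        · have hkv : k.val ≠ r - 1 := fun e => hkp (Fin.ext (by omega))
          have hk' : r < k.val := by
            split_ifs at hk <;> omega
          rw [if_neg hkp, hv k hk', add_zero]

/-- Clearing column `j` below the diagonal. -/
theorem key [Invol φ] (L : Subgroup (UG n φ)) (hU : EL φ (rk n) ≤ L)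
    (hN : ∀ i : Fin (n / 2), ∃ N : UG n φ, N ∈ L ∧ IsMono (sref n i) N.1.1)
    (j : ℕ) (hj : 2 * j + 2 ≤ n) (c : Fin n) (hc : c.val = j) :
    ∀ (r : ℕ) (g : UG n φ), Tri j g.1.1 → (∀ a : Fin n, r < a.val → g.1.1 a c = 0) →
      ∃ y ∈ L, Tri (j + 1) (y * g).1.1 := by
  have base : ∀ g : UG n φ, Tri j g.1.1 → (∀ a : Fin n, j < a.val → g.1.1 a c = 0) →
      ∃ y ∈ L, Tri (j + 1) (y * g).1.1 := by
    intro g hg hv
    refine ⟨1, one_mem L, ?_⟩
    rw [one_mul]
    intro a b hb hba
    by_cases hbj : b.val < j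
    · exact hg a b hbj hba
    · have hbc : b = c := Fin.ext (by omega)
      rw [hbc]
      apply hv
      have : b.val < a.val := hba
      omega
  intro r
  induction r with
  | zero =>
    intro g hg hv
    exact base g hg (fun a ha => hv a (by omega))
  | succ r ih =>
    intro g hg hv
    by_cases h1 : r + 1 ≤ j
    · exact base g hg (fun a ha => hv a (by omega))
    · by_cases h2 : n ≤ r + 1 + j
      · apply ih g hg
        intro a ha
        by_cases h3 : a.val = r + 1
        · apply tri_rows g hg a c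
          · show c.val < a.val
            omega
          · omega
        · exact hv a (by omega)
      · by_cases h3 : g.1.1 ⟨r + 1, by omega⟩ c = 0
        · apply ih g hg
          intro a ha
          by_cases h4 : a.val = r + 1
          · have : a = ⟨r + 1, by omega⟩ := Fin.ext h4
            rw [this]
            exact h3
          · exact hv a (by omega)
        · obtain ⟨y₀, hy₀, ht, hz⟩ := step L hU hN j hj (r + 1) (by omega) (by omega) g hg c hc
            hv ⟨r + 1, by omega⟩ rfl h3
          obtain ⟨y₁, hy₁, ht₁⟩ := ih (y₀ * g) ht (fun a ha => hz a (by omega))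
          refine ⟨y₁ * y₀, mul_mem hy₁ hy₀, ?_⟩
          rw [mul_assoc]
          exact ht₁

theorem exists_tri [Invol φ] (L : Subgroup (UG n φ)) (hU : EL φ (rk n) ≤ L)
    (hN : ∀ i : Fin (n / 2), ∃ N : UG n φ, N ∈ L ∧ IsMono (sref n i) N.1.1) :
    ∀ j : ℕ, 2 * j ≤ n → ∀ g : UG n φ, ∃ y ∈ L, Tri j (y * g).1.1 := by
  intro j
  induction j with
  | zero =>
    intro _ g
    exact ⟨1, one_mem L, fun a b hb _ => absurd hb (Nat.not_lt_zero _)⟩
  | succ j ih =>
    intro hj g
    obtain ⟨y₀, hy₀, ht⟩ := ih (by omega) g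
    obtain ⟨y₁, hy₁, ht₁⟩ := key L hU hN j (by omega) ⟨j, by omega⟩ rfl n (y₀ * g) ht
      (fun a ha => absurd a.2 (by omega))
    exact ⟨y₁ * y₀, mul_mem hy₁ hy₀, by rw [mul_assoc]; exact ht₁⟩

/-- S2546-GEN: unitary Gaussian elimination. -/
theorem ug_gen {n : ℕ} {K : Type*} [Field K] [Fintype K] {φ : K →+* K} [Invol φ]
    (L : Subgroup (UG n φ)) (hU : EL φ (rk n) ≤ L)
    (hD : ∀ t : UG n φ, (∃ d : Fin n → K, t.1.1 = Matrix.diagonal d) → t ∈ L)
    (hN : ∀ i : Fin (n / 2), ∃ N : UG n φ, N ∈ L ∧ IsMono (sref n i) N.1.1) : L = ⊤ := by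
  rw [eq_top_iff]
  intro g _
  obtain ⟨y, hy, ht⟩ := exists_tri L hU hN (n / 2) (Nat.mul_div_le n 2) g
  have hP : y * g ∈ PL φ (rk n) := mem_PL_of_tri (by omega) (y * g) ht
  obtain ⟨t, u, htd, hu, e⟩ := exists_torus hP
  have e2 : g = y⁻¹ * (t * u) := by rw [← e, inv_mul_cancel_left]
  rw [e2]
  exact mul_mem (inv_mem hy) (mul_mem (hD t ⟨_, htd⟩) (hU hu))

end Cfsg.Agent.Lib.Helper30.StU
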