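import Mathlib
import Cfsg.Agent.H74.TsDefs

/-!
# TS-ODD (helper74's project TS for S2948)

`T` a 2-subgroup of odd index, `C ⊴ X`, `T ⊓ C ≤ Q ≤ C`: then `|C : Q|` is odd.
-/

set_option autoImplicit false

universe u

namespace Cfsg.Agent.Lib.Helper30.Ts

open Cfsg Cfsg.Agent.H74.Ts

/-- `|H| · |K : H| = |K|` for `H ≤ K`. -/
theorem card_mul_relIndex_of_le {X : Type u} [Group X] {H K : Subgroup X} (h : H ≤ K) :
    Nat.card ↥H * H.relIndex K = Nat.card ↥K := by
  have h1 := (H.subgroupOf K).card_mul_index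
  have h2 : Nat.card ↥(H.subgroupOf K) = Nat.card ↥H :=
    Nat.card_congr (Subgroup.subgroupOfEquivOfLe h).toEquiv
  rw [h2] at h1
  exact h1

/-- For `C` normal: `|C : T ⊓ C| = |T C : T|`. -/
theorem relIndex_eq_relIndex_sup_of_normal {X : Type u} [Group X] [Finite X]
    (T C : Subgroup X) (hC : C.Normal) : T.relIndex C = T.relIndex (T ⊔ C) := by
  have hC' := hC
  have e1 : Nat.card ↥(T ⊓ C) * C.relIndex T = Nat.card ↥T := by
    have := card_mul_relIndex_of_le (inf_le_left : T ⊓ C ≤ T)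
    rwa [Subgroup.inf_relIndex_left] at this
  have e2 : Nat.card ↥(T ⊓ C) * T.relIndex C = Nat.card ↥C := by
    have := card_mul_relIndex_of_le (inf_le_right : T ⊓ C ≤ C)
    rwa [Subgroup.inf_relIndex_right] at this
  have e3 : Nat.card ↥C * C.relIndex T = Nat.card ↥(T ⊔ C) := by
    have := card_mul_relIndex_of_le (le_sup_right : C ≤ T ⊔ C)
    rwa [Subgroup.relIndex_sup_right] at this
  have e4 : Nat.card ↥T * T.relIndex (T ⊔ C) = Nat.card ↥(T ⊔ C) :=
    card_mul_relIndex_of_le (le_sup_left : T ≤ T ⊔ C)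
  have ha : 0 < Nat.card ↥(T ⊓ C) := Nat.card_pos
  have hb : 0 < C.relIndex T := by
    rcases Nat.eq_zero_or_pos (C.relIndex T) with h0 | h0
    · rw [h0, Nat.mul_zero] at e1
      exact absurd e1.symm (Nat.card_pos (α := ↥T)).ne'
    · exact h0
  have e5 : Nat.card ↥(T ⊓ C) * C.relIndex T * T.relIndex C =
      Nat.card ↥(T ⊓ C) * C.relIndex T * T.relIndex (T ⊔ C) := by
    calc Nat.card ↥(T ⊓ C) * C.relIndex T * T.relIndex C
        = (Nat.card ↥(T ⊓ C) * T.relIndex C) * C.relIndex T := by ring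
      _ = Nat.card ↥(T ⊔ C) := by rw [e2, e3]
      _ = Nat.card ↥(T ⊓ C) * C.relIndex T * T.relIndex (T ⊔ C) := by rw [e1, e4]
  exact Nat.eq_of_mul_eq_mul_left (Nat.mul_pos ha hb) e5

theorem odd : StOdd.{u} := by
  intro X _ _ T C Q _hT hTodd hC hTQ hQC
  have h1 : T.relIndex C = T.relIndex (T ⊔ C) := relIndex_eq_relIndex_sup_of_normal T C hC
  have h2 : T.relIndex (T ⊔ C) ∣ T.index := Subgroup.relIndex_dvd_index_of_le le_sup_left
  have h3 : Odd (T.relIndex C) := by
    rw [h1]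
    exact Odd.of_dvd_nat hTodd h2
  have h4 : Q.relIndex C ∣ (T ⊓ C).relIndex C := Subgroup.relIndex_dvd_of_le_left C hTQ
  rw [Subgroup.inf_relIndex_right] at h4
  exact Odd.of_dvd_nat h3 h4

example : StOdd.{u} := odd

end Cfsg.Agent.Lib.Helper30.Ts
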