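import Mathlib

/-!
# The degree arithmetic for a simple group of order 7920 (piece S4429-ARITH)

Pure arithmetic: from the block data at the primes `11` and `5`, the degrees are
`1, 10, 10, 10, 11, 16, 16, 44, 45, 55`.
-/

set_option autoImplicit false

namespace Cfsg.Agent.Lib.Helper30.Ord7920

theorem dvd_mod11_one : ∀ n : ℕ, n ≤ 88 → n ∣ 7920 → n % 11 = 1 → n = 1 ∨ n = 12 ∨ n = 45 := by
  decide

theorem dvd_mod11_ten : ∀ n : ℕ, n ≤ 88 → n ∣ 7920 → n % 11 = 10 → n = 10 := by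
  decide

theorem dvd_mod11_five : ∀ n : ℕ, n ≤ 62 → n ∣ 7920 → n % 11 = 5 → n = 5 ∨ n = 16 ∨ n = 60 := by
  decide

theorem dvd_mod11_six : ∀ n : ℕ, n ≤ 62 → n ∣ 7920 → n % 11 = 6 → n = 6 := by
  decide

theorem dvd_mul11 : ∀ n : ℕ, n ≤ 88 → n ∣ 7920 → 11 ∣ n → (n % 5 = 1 ∨ n % 5 = 4) →
    n = 11 ∨ n = 44 ∨ n = 66 := by
  decide

theorem dvd_55 : ∀ n : ℕ, n ≤ 88 → n ∣ 7920 → 11 ∣ n → 5 ∣ n → n = 55 := by
  decide

theorem mod11_of_modEq {n : ℕ} {s : ℤ} (hs : s = 1 ∨ s = -1) (h : (n : ℤ) ≡ s [ZMOD 11]) :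
    (s = 1 ∧ n % 11 = 1) ∨ (s = -1 ∧ n % 11 = 10) := by
  unfold Int.ModEq at h
  rcases hs with rfl | rfl
  · left; exact ⟨rfl, by omega⟩
  · right; exact ⟨rfl, by omega⟩

theorem mod11_five_of_modEq {n : ℕ} {e : ℤ} (he : e = 1 ∨ e = -1)
    (h : (n : ℤ) ≡ e * 5 [ZMOD 11]) : (e = 1 ∧ n % 11 = 5) ∨ (e = -1 ∧ n % 11 = 6) := by
  unfold Int.ModEq at h
  rcases he with rfl | rfl
  · left; exact ⟨rfl, by omega⟩
  · right; exact ⟨rfl, by omega⟩

theorem mod5_of_modEq {n : ℕ} {s : ℤ} (hs : s = 1 ∨ s = -1) (h : (n : ℤ) ≡ s [ZMOD 5]) :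
    (s = 1 ∧ n % 5 = 1) ∨ (s = -1 ∧ n % 5 = 4) := by
  unfold Int.ModEq at h
  rcases hs with rfl | rfl
  · left; exact ⟨rfl, by omega⟩
  · right; exact ⟨rfl, by omega⟩

theorem mod5_four_of_modEq {n : ℕ} {e : ℤ} (he : e = 1 ∨ e = -1)
    (h : (n : ℤ) ≡ e * 4 [ZMOD 5]) : (e = 1 ∧ n % 5 = 4) ∨ (e = -1 ∧ n % 5 = 1) := by
  unfold Int.ModEq at h
  rcases he with rfl | rfl
  · left; exact ⟨rfl, by omega⟩
  · right; exact ⟨rfl, by omega⟩

/-- A sum over a finite set on which the summand depends only on which of three values `d`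
takes. -/
theorem three_sum {ι : Type*} (s : Finset ι) (d : ι → ℕ) (g : ι → ℤ) (v12 v45 v10 : ℤ)
    (h : ∀ x ∈ s, (d x = 12 ∧ g x = v12) ∨ (d x = 45 ∧ g x = v45) ∨ (d x = 10 ∧ g x = v10)) :
    ∑ x ∈ s, g x = v12 * ((s.filter (fun x => d x = 12)).card : ℤ) +
      v45 * ((s.filter (fun x => d x = 45)).card : ℤ) +
      v10 * ((s.filter (fun x => d x = 10)).card : ℤ) := by
  rw [Finset.natCast_card_filter, Finset.natCast_card_filter, Finset.natCast_card_filter,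
    Finset.mul_sum, Finset.mul_sum, Finset.mul_sum, ← Finset.sum_add_distrib,
    ← Finset.sum_add_distrib]
  apply Finset.sum_congr rfl
  intro x hx
  rcases h x hx with ⟨h1, h2⟩ | ⟨h1, h2⟩ | ⟨h1, h2⟩ <;> simp [h1, h2]

/-- Splitting a sum over the index set along the four parts. -/
theorem sum_split {ι : Type*} [Fintype ι] [DecidableEq ι] (d : ι → ℕ) (X Y : Finset ι)
    (hXY : ∀ i, i ∈ X ∨ i ∈ Y ↔ ¬ 11 ∣ d i) (hdisj : Disjoint X Y) (g : ι → ℤ) :
    ∑ i, g i = ∑ i ∈ X, g i + ∑ i ∈ Y, g i +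
      ∑ i ∈ (Finset.univ.filter (fun i => 11 ∣ d i)).filter (fun i => ¬ 5 ∣ d i), g i +
      ∑ i ∈ (Finset.univ.filter (fun i => 11 ∣ d i)).filter (fun i => 5 ∣ d i), g i := by
  have hXYe : X ∪ Y = Finset.univ.filter (fun i => ¬ 11 ∣ d i) := by
    ext i
    simp only [Finset.mem_union, Finset.mem_filter, Finset.mem_univ, true_and]
    exact hXY i
  rw [← Finset.sum_union hdisj, hXYe, add_assoc,
    Finset.sum_filter_not_add_sum_filter, Finset.sum_filter_not_add_sum_filter]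

/-- The signed degree at the prime `5`. -/
def sg (n : ℕ) : ℤ := if n % 5 = 1 then (n : ℤ) else -(n : ℤ)

/-- **S4429-ARITH.** The degree arithmetic. -/
theorem degree_arith {ι : Type*} [Fintype ι] (d : ι → ℕ)
    (hsum : ∑ i, d i ^ 2 = 7920) (hdvd : ∀ i, d i ∣ 7920) (hone : ∃! i, d i = 1)
    (X Y : Finset ι) (εX : ι → ℤ) (ε : ℤ)
    (hXY : ∀ i, i ∈ X ∨ i ∈ Y ↔ ¬ 11 ∣ d i) (hdisj : Disjoint X Y)
    (hX : X.card = 5) (hY : Y.card = 2)
    (hεX : ∀ i ∈ X, (εX i = 1 ∨ εX i = -1) ∧ (d i : ℤ) ≡ εX i [ZMOD 11])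
    (hε : ε = 1 ∨ ε = -1) (hYd : ∀ i ∈ Y, (d i : ℤ) ≡ ε * 5 [ZMOD 11])
    (hYeq : ∀ i ∈ Y, ∀ j ∈ Y, d i = d j)
    (hrel : ∀ i ∈ Y, ε * (d i : ℤ) = ∑ j ∈ X, εX j * (d j : ℤ))
    (X' Y' : Finset ι) (εX' : ι → ℤ) (ε' : ℤ)
    (hXY' : ∀ i, i ∈ X' ∨ i ∈ Y' ↔ ¬ 5 ∣ d i) (hdisj' : Disjoint X' Y')
    (hX' : X'.card = 4) (hY' : Y'.card = 1)
    (hεX' : ∀ i ∈ X', (εX' i = 1 ∨ εX' i = -1) ∧ (d i : ℤ) ≡ εX' i [ZMOD 5])
    (hε' : ε' = 1 ∨ ε' = -1) (hYd' : ∀ i ∈ Y', (d i : ℤ) ≡ ε' * 4 [ZMOD 5])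
    (hrel' : ∀ i ∈ Y', ε' * (d i : ℤ) = ∑ j ∈ X', εX' j * (d j : ℤ)) :
    Fintype.card ι = 10 ∧ ∀ n : ℕ, (Finset.univ.filter (fun i => d i = n)).card =
      (if n = 1 ∨ n = 11 ∨ n = 44 ∨ n = 45 ∨ n = 55 then 1 else if n = 10 then 3
        else if n = 16 then 2 else 0) := by
  classical
  have part := sum_split d X Y hXY hdisj
  set W : Finset ι := (Finset.univ.filter (fun i => 11 ∣ d i)).filter (fun i => ¬ 5 ∣ d i)
    with hWdef
  set V : Finset ι := (Finset.univ.filter (fun i => 11 ∣ d i)).filter (fun i => 5 ∣ d i)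
    with hVdef
  -- basic bounds
  have hsumZ : ∑ i, ((d i : ℤ)) ^ 2 = 7920 := by exact_mod_cast hsum
  have hle : ∀ i, d i ≤ 88 := by
    intro i
    have h1 : d i ^ 2 ≤ ∑ j, d j ^ 2 :=
      Finset.single_le_sum (f := fun j => d j ^ 2) (fun j _ => Nat.zero_le _) (Finset.mem_univ i)
    rw [hsum] at h1
    by_contra hc
    have h2 : 89 ^ 2 ≤ d i ^ 2 := Nat.pow_le_pow_left (by omega) 2
    omega
  obtain ⟨i0, hi0, hi0u⟩ := hone
  -- the index of degree one lies in `X`, with sign `+`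
  have hi0X : i0 ∈ X := by
    have h1 : i0 ∈ X ∨ i0 ∈ Y := (hXY i0).mpr (by rw [hi0]; decide)
    rcases h1 with h1 | h1
    · exact h1
    · exfalso
      have h2 := mod11_five_of_modEq hε (hYd i0 h1)
      rw [hi0] at h2
      omega
  have hε0 : εX i0 = 1 := by
    have h2 := mod11_of_modEq (hεX i0 hi0X).1 (hεX i0 hi0X).2
    rw [hi0] at h2
    omega
  -- the other members of `X`
  have hX1 : ∀ x ∈ X.erase i0, (d x = 12 ∧ εX x = 1) ∨ (d x = 45 ∧ εX x = 1) ∨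
      (d x = 10 ∧ εX x = -1) := by
    intro x hx
    have hxX : x ∈ X := Finset.mem_of_mem_erase hx
    have hxne : d x ≠ 1 := fun h => (Finset.ne_of_mem_erase hx) (hi0u x h)
    rcases mod11_of_modEq (hεX x hxX).1 (hεX x hxX).2 with ⟨h1, h2⟩ | ⟨h1, h2⟩
    · rcases dvd_mod11_one (d x) (hle x) (hdvd x) h2 with h3 | h3 | h3
      · exact absurd h3 hxne
      · exact Or.inl ⟨h3, h1⟩
      · exact Or.inr (Or.inl ⟨h3, h1⟩)
    · exact Or.inr (Or.inr ⟨dvd_mod11_ten (d x) (hle x) (hdvd x) h2, h1⟩)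
  set n12 : ℕ := ((X.erase i0).filter (fun x => d x = 12)).card with hn12
  set n45 : ℕ := ((X.erase i0).filter (fun x => d x = 45)).card with hn45
  set n10 : ℕ := ((X.erase i0).filter (fun x => d x = 10)).card with hn10
  -- sums over `X` in terms of the three counts
  have sumX : ∀ (g : ι → ℤ) (v12 v45 v10 : ℤ),
      (∀ x ∈ X.erase i0, (d x = 12 → g x = v12) ∧ (d x = 45 → g x = v45) ∧
        (d x = 10 → g x = v10)) →
      ∑ x ∈ X, g x = g i0 + (v12 * n12 + v45 * n45 + v10 * n10) := by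
    intro g v12 v45 v10 hg
    rw [← Finset.add_sum_erase X g hi0X]
    congr 1
    apply three_sum
    intro x hx
    rcases hX1 x hx with ⟨h1, -⟩ | ⟨h1, -⟩ | ⟨h1, -⟩
    · exact Or.inl ⟨h1, (hg x hx).1 h1⟩
    · exact Or.inr (Or.inl ⟨h1, (hg x hx).2.1 h1⟩)
    · exact Or.inr (Or.inr ⟨h1, (hg x hx).2.2 h1⟩)
  have hcount : n12 + n45 + n10 = 4 := by
    have h1 := sumX (fun _ => 1) 1 1 1 (fun x hx => ⟨fun _ => rfl, fun _ => rfl, fun _ => rfl⟩)
    rw [Finset.sum_const, hX] at h1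
    simp only [nsmul_eq_mul, mul_one, one_mul] at h1
    omega
  have hsgnX : ∑ x ∈ X, εX x * (d x : ℤ) = 1 + (12 * n12 + 45 * n45 + (-10) * n10) := by
    have h1 := sumX (fun x => εX x * (d x : ℤ)) 12 45 (-10) (by
      intro x hx
      rcases hX1 x hx with ⟨h1, h2⟩ | ⟨h1, h2⟩ | ⟨h1, h2⟩
      · exact ⟨fun _ => by simp [h1, h2], fun h => by omega, fun h => by omega⟩
      · exact ⟨fun h => by omega, fun _ => by simp [h1, h2], fun h => by omega⟩
      · exact ⟨fun h => by omega, fun h => by omega, fun _ => by simp [h1, h2]⟩)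
    rw [h1]
    simp [hε0, hi0]
  have hsqX : ∑ x ∈ X, ((d x : ℤ)) ^ 2 = 1 + (144 * n12 + 2025 * n45 + 100 * n10) := by
    have h1 := sumX (fun x => ((d x : ℤ)) ^ 2) 144 2025 100 (by
      intro x hx
      refine ⟨fun h => ?_, fun h => ?_, fun h => ?_⟩ <;> simp [h])
    rw [h1]
    simp [hi0]
  -- the two members of `Y`
  obtain ⟨y0, y1, hy01, rfl⟩ := Finset.card_eq_two.mp hY
  have hy0 : y0 ∈ ({y0, y1} : Finset ι) := by simp
  have hy1 : y1 ∈ ({y0, y1} : Finset ι) := by simp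
  have hf1 : d y1 = d y0 := hYeq y1 hy1 y0 hy0
  have sumY : ∀ g : ι → ℤ, ∑ x ∈ ({y0, y1} : Finset ι), g x = g y0 + g y1 :=
    fun g => Finset.sum_pair hy01
  -- nonnegativity of the square sums
  have hWnn : 0 ≤ ∑ i ∈ W, ((d i : ℤ)) ^ 2 := Finset.sum_nonneg (fun i _ => by positivity)
  have hVnn : 0 ≤ ∑ i ∈ V, ((d i : ℤ)) ^ 2 := Finset.sum_nonneg (fun i _ => by positivity)
  have hsq := part (fun i => ((d i : ℤ)) ^ 2)
  rw [hsumZ, hsqX, sumY, hf1] at hsq
  have hf62 : d y0 ≤ 62 := by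
    by_contra hc
    have h2 : (63 : ℤ) ≤ (d y0 : ℤ) := by exact_mod_cast (by omega : 63 ≤ d y0)
    nlinarith
  have hrel0 := hrel y0 hy0
  rw [hsgnX] at hrel0
  -- the arithmetic at the prime 11
  have key11 : ε = 1 ∧ d y0 = 16 ∧ n12 = 0 ∧ n45 = 1 ∧ n10 = 3 := by
    rcases mod11_five_of_modEq hε (hYd y0 hy0) with ⟨h1, h2⟩ | ⟨h1, h2⟩
    · rcases dvd_mod11_five (d y0) hf62 (hdvd y0) h2 with h3 | h3 | h3
      · -- f = 5 forces two members of degree 12, impossible at the prime 5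
        exfalso
        rw [h1, h3] at hrel0
        have h12 : 0 < n12 := by
          push_cast at hrel0
          omega
        obtain ⟨x, hx⟩ := Finset.card_pos.mp h12
        rw [Finset.mem_filter] at hx
        have hx5 : x ∈ X' ∨ x ∈ Y' := (hXY' x).mpr (by rw [hx.2]; decide)
        rcases hx5 with hx5 | hx5
        · have h4 := mod5_of_modEq (hεX' x hx5).1 (hεX' x hx5).2
          rw [hx.2] at h4
          omega
        · have h4 := mod5_four_of_modEq hε' (hYd' x hx5)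
          rw [hx.2] at h4
          omega
      · rw [h1, h3] at hrel0
        push_cast at hrel0
        refine ⟨h1, h3, ?_, ?_, ?_⟩ <;> omega
      · exfalso
        rw [h1, h3] at hrel0
        rw [h3] at hsq
        push_cast at hrel0 hsq
        omega
    · exfalso
      have h3 := dvd_mod11_six (d y0) hf62 (hdvd y0) h2
      rw [h1, h3] at hrel0
      push_cast at hrel0
      omega
  obtain ⟨hε1, hf, h12, h45, h10⟩ := key11
  have hfy1 : d y1 = 16 := by rw [hf1, hf]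
  -- the prime 5
  have h5set : Finset.univ.filter (fun i => ¬ 5 ∣ d i) = X' ∪ Y' := by
    ext i
    simp only [Finset.mem_union, Finset.mem_filter, Finset.mem_univ, true_and]
    exact (hXY' i).symm
  have hmem5 : ∀ i, ¬ 5 ∣ d i → d i % 5 = 1 ∨ d i % 5 = 4 := by
    intro i hi
    rcases (hXY' i).mpr hi with h | h
    · rcases mod5_of_modEq (hεX' i h).1 (hεX' i h).2 with ⟨-, h2⟩ | ⟨-, h2⟩ <;> omega
    · rcases mod5_four_of_modEq hε' (hYd' i h) with ⟨-, h2⟩ | ⟨-, h2⟩ <;> omega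
  have hc5 : ∑ i, (if ¬ 5 ∣ d i then (1 : ℤ) else 0) = 5 := by
    rw [← Finset.natCast_card_filter, h5set, Finset.card_union_of_disjoint hdisj', hX', hY']
    norm_num
  have hσ : ∑ i, (if ¬ 5 ∣ d i then sg (d i) else 0) = 0 := by
    rw [← Finset.sum_filter, h5set, Finset.sum_union hdisj']
    obtain ⟨y', hy'⟩ := Finset.card_eq_one.mp hY'
    have hy'm : y' ∈ Y' := by rw [hy']; simp
    rw [hy', Finset.sum_singleton]
    have hA : ∑ i ∈ X', sg (d i) = ∑ i ∈ X', εX' i * (d i : ℤ) := by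
      apply Finset.sum_congr rfl
      intro i hi
      rcases mod5_of_modEq (hεX' i hi).1 (hεX' i hi).2 with ⟨h1, h2⟩ | ⟨h1, h2⟩
      · simp [sg, h1, h2]
      · simp [sg, h1, h2]
    have hB : sg (d y') = -(ε' * (d y' : ℤ)) := by
      rcases mod5_four_of_modEq hε' (hYd' y' hy'm) with ⟨h1, h2⟩ | ⟨h1, h2⟩
      · simp [sg, h1, h2]
      · simp [sg, h1, h2]
    rw [hA, hB, ← hrel' y' hy'm]
    ring
  have hWmem : ∀ w ∈ W, 11 ∣ d w ∧ ¬ 5 ∣ d w := by
    intro w hw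
    rw [hWdef, Finset.mem_filter, Finset.mem_filter] at hw
    exact ⟨hw.1.2, hw.2⟩
  have hVmem : ∀ v ∈ V, d v = 55 := by
    intro v hv
    rw [hVdef, Finset.mem_filter, Finset.mem_filter] at hv
    exact dvd_55 (d v) (hle v) (hdvd v) hv.1.2 hv.2
  -- the number of members of `W`
  have hWcard : W.card = 2 := by
    have h1 := part (fun i => if ¬ 5 ∣ d i then (1 : ℤ) else 0)
    rw [hc5, sumY, sumX _ (if ¬ 5 ∣ 12 then (1 : ℤ) else 0) (if ¬ 5 ∣ 45 then (1 : ℤ) else 0)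
      (if ¬ 5 ∣ 10 then (1 : ℤ) else 0)
      (fun x _ => ⟨fun h => by rw [h], fun h => by rw [h], fun h => by rw [h]⟩)] at h1
    have h2 : ∑ i ∈ W, (if ¬ 5 ∣ d i then (1 : ℤ) else 0) = W.card := by
      rw [Finset.sum_congr rfl (fun w hw => if_pos (hWmem w hw).2), Finset.sum_const]
      simp
    have h3 : ∑ i ∈ V, (if ¬ 5 ∣ d i then (1 : ℤ) else 0) = 0 := by
      apply Finset.sum_eq_zero
      intro v hv
      rw [hVmem v hv]
      rfl
    rw [h2, h3, hi0, hf, hfy1, h12, h45, h10] at h1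
    norm_num at h1
    omega
  obtain ⟨z1, z2, hz12, hWeq⟩ := Finset.card_eq_two.mp hWcard
  have hz1 : z1 ∈ W := by rw [hWeq]; simp
  have hz2 : z2 ∈ W := by rw [hWeq]; simp
  have hdz1 := dvd_mul11 (d z1) (hle z1) (hdvd z1) (hWmem z1 hz1).1 (hmem5 z1 (hWmem z1 hz1).2)
  have hdz2 := dvd_mul11 (d z2) (hle z2) (hdvd z2) (hWmem z2 hz2).1 (hmem5 z2 (hWmem z2 hz2).2)
  have sumW : ∀ g : ι → ℤ, ∑ x ∈ W, g x = g z1 + g z2 := by
    intro g
    rw [hWeq]
    exact Finset.sum_pair hz12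
  -- the signed relation at the prime 5
  have hσW : sg (d z1) + sg (d z2) = -33 := by
    have h1 := part (fun i => if ¬ 5 ∣ d i then sg (d i) else 0)
    rw [hσ, sumY, sumW, sumX _ (if ¬ 5 ∣ 12 then sg 12 else 0) (if ¬ 5 ∣ 45 then sg 45 else 0)
      (if ¬ 5 ∣ 10 then sg 10 else 0)
      (fun x _ => ⟨fun h => by rw [h], fun h => by rw [h], fun h => by rw [h]⟩)] at h1
    have h3 : ∑ i ∈ V, (if ¬ 5 ∣ d i then sg (d i) else 0) = 0 := by
      apply Finset.sum_eq_zero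
      intro v hv
      rw [hVmem v hv]
      rfl
    have hs1 : sg 1 = 1 := by simp [sg]
    have hs16 : sg 16 = 16 := by simp [sg]
    rw [h3, hi0, hf, hfy1, h12, h45, h10, if_pos (hWmem z1 hz1).2, if_pos (hWmem z2 hz2).2] at h1
    norm_num [hs1, hs16] at h1
    linarith
  have hWfacts : (∑ i ∈ W, ((d i : ℤ)) ^ 2 = 2057) ∧ ∀ n : ℕ,
      ∑ i ∈ W, (if d i = n then (1 : ℤ) else 0) =
        (if 11 = n then (1 : ℤ) else 0) + (if 44 = n then (1 : ℤ) else 0) := by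
    rcases hdz1 with h1 | h1 | h1 <;> rcases hdz2 with h2 | h2 | h2 <;>
      rw [h1, h2] at hσW <;> norm_num [sg] at hσW
    · refine ⟨by rw [sumW, h1, h2]; norm_num, fun n => by rw [sumW, h1, h2]⟩
    · refine ⟨by rw [sumW, h1, h2]; norm_num, fun n => by rw [sumW, h1, h2, add_comm]⟩
  obtain ⟨hWsq, hWn⟩ := hWfacts
  -- the number of members of `V`
  have hVsq : ∑ i ∈ V, ((d i : ℤ)) ^ 2 = 3025 * (V.card : ℤ) := by
    rw [Finset.sum_congr rfl (fun v hv => by rw [hVmem v hv]), Finset.sum_const, nsmul_eq_mul]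
    push_cast
    ring
  have hVcard : V.card = 1 := by
    rw [hWsq, hVsq, hf, h12, h45, h10] at hsq
    push_cast at hsq
    omega
  refine ⟨?_, fun n => ?_⟩
  · have h1 := part (fun _ => (1 : ℤ))
    simp only [Finset.sum_const, nsmul_eq_mul, mul_one, Finset.card_univ] at h1
    rw [hX, Finset.card_pair hy01, hWcard, hVcard] at h1
    exact_mod_cast h1
  · have h1 := part (fun i => if d i = n then (1 : ℤ) else 0)
    rw [← Finset.natCast_card_filter, sumY, hWn,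
      sumX _ (if 12 = n then (1 : ℤ) else 0) (if 45 = n then (1 : ℤ) else 0)
      (if 10 = n then (1 : ℤ) else 0)
      (fun x _ => ⟨fun h => by rw [h], fun h => by rw [h], fun h => by rw [h]⟩)] at h1
    have h3 : ∑ i ∈ V, (if d i = n then (1 : ℤ) else 0) = (if 55 = n then (1 : ℤ) else 0) := by
      rw [Finset.sum_congr rfl (fun v hv => by rw [hVmem v hv]), Finset.sum_const, hVcard]
      simp
    rw [h3, hi0, hf, hfy1, h12, h45, h10] at h1
    by_cases a1 : n = 1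
    · subst a1
      norm_num at h1 ⊢
      omega
    by_cases a2 : n = 10
    · subst a2
      norm_num at h1 ⊢
      omega
    by_cases a3 : n = 11
    · subst a3
      norm_num at h1 ⊢
      omega
    by_cases a4 : n = 16
    · subst a4
      norm_num at h1 ⊢
      omega
    by_cases a5 : n = 44
    · subst a5
      norm_num at h1 ⊢
      omega
    by_cases a6 : n = 45
    · subst a6
      norm_num at h1 ⊢
      omega
    by_cases a7 : n = 55
    · subst a7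
      norm_num at h1 ⊢
      omega
    by_cases a8 : n = 12
    · subst a8
      norm_num at h1 ⊢
      omega
    have b1 : ¬ (1 = n) := fun h => a1 h.symm
    have b2 : ¬ (10 = n) := fun h => a2 h.symm
    have b3 : ¬ (11 = n) := fun h => a3 h.symm
    have b4 : ¬ (16 = n) := fun h => a4 h.symm
    have b5 : ¬ (44 = n) := fun h => a5 h.symm
    have b6 : ¬ (45 = n) := fun h => a6 h.symm
    have b7 : ¬ (55 = n) := fun h => a7 h.symm
    have b8 : ¬ (12 = n) := fun h => a8 h.symm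
    rw [if_neg b1, if_neg b2, if_neg b3, if_neg b4, if_neg b5, if_neg b6, if_neg b7,
      if_neg b8] at h1
    have hor : ¬ (n = 1 ∨ n = 11 ∨ n = 44 ∨ n = 45 ∨ n = 55) := by
      rintro (h | h | h | h | h) <;> contradiction
    rw [if_neg hor, if_neg a2, if_neg a4]
    have h2 : ((Finset.univ.filter (fun i => d i = n)).card : ℤ) = 0 := by
      rw [h1]
      norm_num
    exact_mod_cast h2

end Cfsg.Agent.Lib.Helper30.Ord7920
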