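import Mathlib
import Cfsg.Agent.H50.AmDefs

/-!
# AM-S34 (helper50's S2262 project): `σ`-real `3 × 3` matrices over the field with 4 elements

`χ_g = X³ + aX² + bX + c` and `χ_{g⁻¹} = σ(χ_g)` force `b = a²c`; then
`a = 0`: `g³ = -c`; `a ≠ 0, c = 1`: `g⁴ = a`; `a ≠ 0, c ≠ 1`: `g⁶ = 1`.
-/

set_option autoImplicit false

universe u

namespace Cfsg.Agent.Lib.Helper30.Am

open Cfsg.Agent.H50.Am Matrix Polynomial

theorem s34 : Cfsg.Agent.H50.Am.StS34.{u} := by
  intro F _ _ σ g h hσ hcard hR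
  obtain ⟨hgh, c, c', hcc, hh⟩ := hR
  -- field facts
  have h4 : ∀ x : F, x ^ 4 = x := fun x => by
    have h := FiniteField.pow_card x
    rwa [hcard] at h
  have h2 : (2 : F) = 0 := by
    have h := FiniteField.cast_card_eq_zero F
    rw [hcard] at h
    have h22 : (2 : F) * 2 = 0 := by
      norm_num at h ⊢
      exact h
    exact mul_self_eq_zero.mp h22
  have hquad : ∀ x : F, x ≠ 0 → x ≠ 1 → x ^ 2 + x + 1 = 0 := by
    intro x hx0 hx1
    have h5 : x * ((x - 1) * (x ^ 2 + x + 1)) = 0 := by linear_combination h4 x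
    rcases mul_eq_zero.mp h5 with h | h
    · exact absurd h hx0
    · rcases mul_eq_zero.mp h with h | h
      · exact absurd (sub_eq_zero.mp h) hx1
      · exact h
  have hσ2 : ∀ x : F, σ x = x ^ 2 := by
    obtain ⟨w, hw⟩ := hσ
    have hw0 : w ≠ 0 := by
      rintro rfl
      exact hw (map_zero σ)
    have hw1 : w ≠ 1 := by
      rintro rfl
      exact hw (map_one σ)
    have hwq := hquad w hw0 hw1
    have hσw : σ w ^ 2 + σ w + 1 = 0 := by
      have h := congrArg σ hwq
      simpa using h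
    have hσw' : σ w = w ^ 2 := by
      have h6 : (σ w - w) * (σ w + w + 1) = 0 := by linear_combination hσw - hwq
      rcases mul_eq_zero.mp h6 with h | h
      · exact absurd (sub_eq_zero.mp h) hw
      · linear_combination h - hwq
    intro x
    by_cases hx0 : x = 0
    · subst hx0; simp
    by_cases hx1 : x = 1
    · subst hx1; simp
    have hxq := hquad x hx0 hx1
    have h7 : (x - w) * (x + w + 1) = 0 := by linear_combination hxq - hwq
    rcases mul_eq_zero.mp h7 with h | h
    · have hxw : x = w := sub_eq_zero.mp h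
      rw [hxw, hσw']
    · have hx : x = w ^ 2 := by linear_combination h - hwq
      rw [hx, map_pow, hσw']
  -- the characteristic polynomial
  have hhg : h * g = 1 := mul_eq_one_comm.mp hgh
  have hc'c : c' * c = 1 := mul_eq_one_comm.mp hcc
  have hmonic : g.charpoly.Monic := Matrix.charpoly_monic g
  have hdeg : g.charpoly.natDegree = 3 := by
    rw [Matrix.charpoly_natDegree_eq_dim]; simp
  have hunit : IsUnit g := ⟨⟨g, h, hgh, hhg⟩, rfl⟩
  have hinv : g⁻¹ = h := Matrix.inv_eq_right_inv hgh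
  have hch1 : h.charpoly = g.charpoly.map (σ : F →+* F) := by
    rw [hh, mul_assoc, Matrix.charpoly_mul_comm, mul_assoc, hc'c, mul_one,
      Matrix.charpoly_transpose]
    exact Matrix.charpoly_map g (σ : F →+* F)
  have hch2 : h.charpoly =
      (-1) ^ Fintype.card (Fin 3) * C (Ring.inverse g.det) * g.charpoly.reverse := by
    rw [← hinv, Matrix.charpoly_inv g hunit, Matrix.reverse_charpoly]
  obtain ⟨ν, hν⟩ : ∃ ν : F, h.charpoly = C ν * g.charpoly.reverse := by
    refine ⟨(-1) ^ Fintype.card (Fin 3) * Ring.inverse g.det, ?_⟩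
    rw [hch2]
    simp
  have hc : ∀ i, σ (g.charpoly.coeff i) = ν * g.charpoly.reverse.coeff i := by
    intro i
    have h := congrArg (fun p => p.coeff i) (hch1.symm.trans hν)
    simpa using h
  set a : F := g.charpoly.coeff 2 with ha
  set b : F := g.charpoly.coeff 1 with hb
  set c₀ : F := g.charpoly.coeff 0 with hc₀
  have e3 : (1 : F) = ν * c₀ := by
    have h := hc 3
    rw [Polynomial.coeff_reverse, hdeg, Polynomial.revAt_le (le_refl 3)] at h
    have h1 : g.charpoly.coeff 3 = 1 := by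
      have := hmonic.coeff_natDegree
      rwa [hdeg] at this
    rw [h1, map_one] at h
    exact h
  have e2 : a ^ 2 = ν * b := by
    have h := hc 2
    rw [Polynomial.coeff_reverse, hdeg, Polynomial.revAt_le (by norm_num : 2 ≤ 3), hσ2] at h
    exact h
  have hbac : b = a ^ 2 * c₀ := by linear_combination b * e3 - c₀ * e2
  have hc0 : c₀ ≠ 0 := by
    intro h0
    rw [h0, mul_zero] at e3
    exact one_ne_zero e3
  have hPexp : g.charpoly = X ^ 3 + C a * X ^ 2 + C b * X + C c₀ := by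
    have h := hmonic.as_sum
    rw [hdeg] at h
    rw [h]
    simp only [Finset.sum_range_succ, Finset.sum_range_zero]
    simp only [← ha, ← hb, ← hc₀]
    ring
  have hCH : aeval g g.charpoly = 0 := Matrix.aeval_self_charpoly g
  have hfin : ∀ (N : ℕ) (s : F) (A : F[X]), X ^ N - C s = g.charpoly * A →
      g ^ N = s • (1 : Matrix (Fin 3) (Fin 3) F) := by
    intro N s A hA
    have h := congrArg (aeval g) hA
    rw [map_mul, hCH, zero_mul, map_sub, map_pow, aeval_X, aeval_C, sub_eq_zero] at h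
    rw [h, Algebra.algebraMap_eq_smul_one]
  have h2P : (2 : F[X]) = 0 := by
    have h : (C (2 : F) : F[X]) = 2 := map_ofNat (C : F →+* F[X]) 2
    rw [← h, h2, C_0]
  have hbP : C b = C a ^ 2 * C c₀ := by rw [hbac, C_mul, C_pow]
  by_cases ha0 : a = 0
  · -- `g³ = -c₀`
    refine ⟨3, by norm_num, by norm_num, -c₀, hfin 3 (-c₀) 1 ?_⟩
    have haP : C a = 0 := by rw [ha0, C_0]
    have hbP' : C b = 0 := by rw [hbP, haP]; ring
    rw [hPexp, map_neg]
    linear_combination (-X ^ 2) * haP + (-X) * hbP'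
  · have ha3 : a ^ 3 = 1 := by
      have h5 : a * (a ^ 3 - 1) = 0 := by linear_combination h4 a
      rcases mul_eq_zero.mp h5 with h | h
      · exact absurd h ha0
      · exact sub_eq_zero.mp h
    have ha3P : C a ^ 3 = 1 := by rw [← C_pow, ha3, C_1]
    by_cases hc1 : c₀ = 1
    · -- `g⁴ = a`
      refine ⟨4, by norm_num, by norm_num, a, hfin 4 a (X + C a) ?_⟩
      have hcP : C c₀ = 1 := by rw [hc1, C_1]
      rw [hPexp]
      linear_combination (-(X ^ 2 + C a * X)) * hbP +
        (-(X + C a + C a ^ 2 * X ^ 2 + C a ^ 3 * X)) * hcP + (-X) * ha3P +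
        (-C a - C a * X ^ 3 - C a ^ 2 * X ^ 2 - X) * h2P
    · -- `g⁶ = 1`
      have hQ := hquad c₀ hc0 hc1
      have hQP : C c₀ ^ 2 + C c₀ + 1 = 0 := by
        have h := congrArg (C : F → F[X]) hQ
        simpa using h
      refine ⟨6, by norm_num, by norm_num, 1,
        hfin 6 1 (X ^ 3 + C a * X ^ 2 + C a ^ 2 * C c₀ ^ 2 * X + C c₀ ^ 2) ?_⟩
      rw [hPexp, C_1]
      linear_combination
        (-X * (X ^ 3 + C a * X ^ 2 + C a ^ 2 * C c₀ ^ 2 * X + C c₀ ^ 2)) * hbP +
        (-1 - C a * X ^ 5 - (C c₀ ^ 2 + C c₀) * X ^ 3 - C a ^ 2 * C c₀ ^ 3 * X) * h2P +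
        (-(C c₀ - 1) - C a ^ 2 * X ^ 4 - C a * C c₀ * X ^ 2) * hQP +
        (-(C c₀ ^ 2 + C c₀) * X ^ 3 - C a * C c₀ ^ 3 * X ^ 2) * ha3P

end Cfsg.Agent.Lib.Helper30.Am

example : Cfsg.Agent.H50.Am.StS34.{u} := Cfsg.Agent.Lib.Helper30.Am.s34
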