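import Mathlib
import Cfsg.Agent.H72.BHM1
import Cfsg.Agent.H1.Index
import Cfsg.Agent.H1.SZConj

/-!
# q-Baer groups (S4125), group side, pieces G1 and G2: basic lemmas

`QE q x` : `x` is a `q`-element.  Facts on class sizes of `q`-elements:
* `mem_sylow_of_pow_index` : a `q`-element with `q`-power class size lies in every Sylow
  `q`-subgroup;
* `exists_sylow_central` : a `q`-element with class size prime to `q` is central in some Sylow
  `q`-subgroup;
* `index_mul_dvd`, `index_le_mul_left`, `index_le_mul_right` : class size of a product of two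
  elements with coprime class sizes;
* `exists_normal_diff`, `index_pow_of_normal_diff` : the normal subgroup generated by the
  differences of conjugates.
-/

set_option autoImplicit false

namespace Cfsg.Agent.Lib.Helper30.Baer

open Cfsg.Agent.H72.Ito Cfsg.Agent.H72.BHM

universe u

variable {G : Type u} [Group G]

/-- `x` is a `q`-element. -/
def QE (q : ℕ) (x : G) : Prop := ∃ k : ℕ, orderOf x = q ^ k

theorem QE.conj {q : ℕ} {x : G} (h : QE q x) (c : G) : QE q (c * x * c⁻¹) := by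
  obtain ⟨k, hk⟩ := h
  refine ⟨k, ?_⟩
  rw [← hk]
  exact (MulAut.conj c).orderOf_eq x

theorem QE.pow_eq_one {q : ℕ} {x : G} (h : QE q x) : ∃ k : ℕ, x ^ (q ^ k) = 1 := by
  obtain ⟨k, hk⟩ := h
  exact ⟨k, by rw [← hk]; exact pow_orderOf_eq_one x⟩

theorem qe_of_pow_eq_one {q : ℕ} [hq : Fact q.Prime] {x : G} {k : ℕ} (h : x ^ (q ^ k) = 1) :
    QE q x := by
  obtain ⟨j, _, hj⟩ := (Nat.dvd_prime_pow hq.out).mp (orderOf_dvd_of_pow_eq_one h)
  exact ⟨j, hj⟩

theorem QE.mul {q : ℕ} [Fact q.Prime] {x y : G} (hx : QE q x) (hy : QE q y)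
    (hc : Commute x y) : QE q (x * y) := by
  obtain ⟨k, hk⟩ := hx.pow_eq_one
  obtain ⟨l, hl⟩ := hy.pow_eq_one
  apply qe_of_pow_eq_one (k := k + l)
  rw [hc.mul_pow, pow_add, pow_mul, hk, one_pow, mul_comm (q ^ k), pow_mul, hl, one_pow, mul_one]

theorem QE.inv {q : ℕ} {x : G} (h : QE q x) : QE q x⁻¹ := by
  obtain ⟨k, hk⟩ := h
  exact ⟨k, by rw [orderOf_inv, hk]⟩

theorem qe_of_mem_sylow {q : ℕ} [Fact q.Prime] (Q : Sylow q G) {x : G} (hx : x ∈ Q) :
    QE q x := by
  obtain ⟨k, hk⟩ := Q.isPGroup' ⟨x, hx⟩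
  apply qe_of_pow_eq_one (k := k)
  exact congrArg Subtype.val hk

theorem exists_sylow_mem [Finite G] {q : ℕ} [Fact q.Prime] {x : G} (hx : QE q x) :
    ∃ Q : Sylow q G, x ∈ Q := by
  obtain ⟨k, hk⟩ := hx
  have hZ : IsPGroup q (Subgroup.zpowers x) :=
    IsPGroup.of_card (n := k) (by rw [Nat.card_zpowers, hk])
  obtain ⟨Q, hQ⟩ := hZ.exists_le_sylow
  exact ⟨Q, hQ (Subgroup.mem_zpowers x)⟩

theorem coprime_sylow_index_pow [Finite G] {q : ℕ} [Fact q.Prime] (Q : Sylow q G) (a : ℕ) :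
    (Q : Subgroup G).index.Coprime (q ^ a) := by
  apply Nat.Coprime.pow_right
  rw [Nat.coprime_comm]
  exact (Nat.Prime.coprime_iff_not_dvd Fact.out).mpr Q.not_dvd_index

/-- FACT W: a `q`-element with `q`-power class size lies in every Sylow `q`-subgroup. -/
theorem mem_sylow_of_pow_index [Finite G] {q : ℕ} [Fact q.Prime] {x : G} (hx : QE q x) {a : ℕ}
    (ha : (cen x).index = q ^ a) (Q : Sylow q G) : x ∈ Q := by
  obtain ⟨Q₀, hQ₀⟩ := exists_sylow_mem hx
  have hco : (Q₀ : Subgroup G).index.Coprime (cen x).index := by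
    rw [ha]; exact coprime_sylow_index_pow Q₀ a
  have hconj : ∀ g : G, g * x * g⁻¹ ∈ Q₀ := by
    intro g
    obtain ⟨u, hu, c, hc, rfl⟩ := (Cfsg.Agent.H1.coprime_index _ _ hco).2 g
    have hcx : c * x = x * c := mem_cen.mp hc
    have e : u * c * x * (u * c)⁻¹ = u * x * u⁻¹ := by
      calc u * c * x * (u * c)⁻¹ = u * (c * x) * c⁻¹ * u⁻¹ := by group
        _ = u * (x * c) * c⁻¹ * u⁻¹ := by rw [hcx]
        _ = u * x * u⁻¹ := by group
    rw [e]
    exact (Q₀ : Subgroup G).mul_mem ((Q₀ : Subgroup G).mul_mem hu hQ₀)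
      ((Q₀ : Subgroup G).inv_mem hu)
  obtain ⟨g, rfl⟩ := MulAction.exists_smul_eq G Q₀ Q
  rw [Cfsg.Agent.H72.mem_sylow_smul]
  have := hconj g⁻¹
  rwa [inv_inv] at this

/-- A `q`-element with class size prime to `q` is central in some Sylow `q`-subgroup. -/
theorem exists_sylow_central [Finite G] {q : ℕ} [Fact q.Prime] {y : G} (hy : QE q y)
    (h : ¬ q ∣ (cen y).index) : ∃ Q : Sylow q G, y ∈ Q ∧ (Q : Subgroup G) ≤ cen y := by
  obtain ⟨Q, hQ⟩ := Cfsg.Agent.H72.exists_sylow_le_of_not_dvd_index q (cen y) h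
  obtain ⟨k, hk⟩ := hy
  obtain ⟨c, hc, hcy⟩ :=
    Cfsg.Agent.H72.exists_conj_mem_sylow_of_le Q (cen y) hQ y (self_mem_cen y) k hk
  have e : c * y * c⁻¹ = y := by rw [mem_cen.mp hc]; group
  rw [e] at hcy
  exact ⟨Q, hcy, hQ⟩

theorem index_mul_dvd [Finite G] {x y : G} (hco : (cen x).index.Coprime (cen y).index) :
    (cen (x * y)).index ∣ (cen x).index * (cen y).index := by
  rw [← Cfsg.Agent.H72.BHM.index_inf_of_coprime _ _ hco]
  apply Subgroup.index_dvd_of_le
  intro g hg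
  rw [Subgroup.mem_inf, mem_cen, mem_cen] at hg
  rw [mem_cen]
  calc g * (x * y) = (g * x) * y := by group
    _ = x * (g * y) := by rw [hg.1]; group
    _ = x * y * g := by rw [hg.2]; group

theorem index_le_mul_left [Finite G] {x y : G} (hco : (cen x).index.Coprime (cen y).index) :
    (cen x).index ≤ (cen (x * y)).index := by
  rw [← card_conj, ← card_conj]
  refine Nat.card_le_card_of_injective
    (fun v : {v : G // IsConj x v} =>
      (⟨v.1 * y, isConj_mul hco v.2 (IsConj.refl y)⟩ : {u : G // IsConj (x * y) u})) ?_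
  intro v₁ v₂ h
  have h' : v₁.1 * y = v₂.1 * y := congrArg Subtype.val h
  exact Subtype.ext (mul_right_cancel h')

theorem index_le_mul_right [Finite G] {x y : G} (hco : (cen x).index.Coprime (cen y).index) :
    (cen y).index ≤ (cen (x * y)).index := by
  rw [← card_conj, ← card_conj]
  refine Nat.card_le_card_of_injective
    (fun v : {v : G // IsConj y v} =>
      (⟨x * v.1, isConj_mul hco (IsConj.refl x) v.2⟩ : {u : G // IsConj (x * y) u})) ?_
  intro v₁ v₂ h
  have h' : x * v₁.1 = x * v₂.1 := congrArg Subtype.val h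
  exact Subtype.ext (mul_left_cancel h')

/-- A prime power between the maximum and the product of two coprime prime powers is one of
them. -/
theorem pp_dichotomy {p₁ p₂ r a b c : ℕ} (h1 : p₁.Prime) (h2 : p₂.Prime) (hr : r.Prime)
    (hne : p₁ ≠ p₂) (hle1 : p₁ ^ a ≤ r ^ c) (hle2 : p₂ ^ b ≤ r ^ c)
    (hdvd : r ^ c ∣ p₁ ^ a * p₂ ^ b) : r ^ c = p₁ ^ a ∨ r ^ c = p₂ ^ b := by
  rcases Nat.eq_zero_or_pos c with hc | hc
  · subst hc
    left
    have h0 : 0 < p₁ ^ a := pow_pos h1.pos a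
    rw [pow_zero] at hle1 ⊢
    omega
  · have hrd : r ∣ p₁ ^ a * p₂ ^ b := (dvd_pow_self r hc.ne').trans hdvd
    rcases (Nat.Prime.dvd_mul hr).mp hrd with h | h
    · have hrp : r = p₁ := (Nat.prime_dvd_prime_iff_eq hr h1).mp (hr.dvd_of_dvd_pow h)
      subst hrp
      left
      have hcop : (r ^ c).Coprime (p₂ ^ b) :=
        Nat.Coprime.pow _ _ ((Nat.coprime_primes hr h2).mpr hne)
      have hd : r ^ c ∣ r ^ a := hcop.dvd_of_dvd_mul_right hdvd
      exact le_antisymm (Nat.le_of_dvd (pow_pos hr.pos a) hd) hle1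
    · have hrp : r = p₂ := (Nat.prime_dvd_prime_iff_eq hr h2).mp (hr.dvd_of_dvd_pow h)
      subst hrp
      right
      have hcop : (r ^ c).Coprime (p₁ ^ a) :=
        Nat.Coprime.pow _ _ ((Nat.coprime_primes hr h1).mpr (Ne.symm hne))
      have hd : r ^ c ∣ r ^ b := hcop.dvd_of_dvd_mul_left hdvd
      exact le_antisymm (Nat.le_of_dvd (pow_pos hr.pos b) hd) hle2

/-- If `x`, `y` have coprime class sizes and `xy` has the class size of `x`, the differences of
the conjugates of `y` lie in a normal subgroup whose order divides the class size of `x`. -/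
theorem exists_normal_diff [Finite G] {x y : G} (hco : (cen x).index.Coprime (cen y).index)
    (heq : (cen (x * y)).index = (cen x).index) :
    ∃ N : Subgroup G, N.Normal ∧ Nat.card N ∣ (cen x).index ∧
      ∀ c : G, (c * y * c⁻¹) * y⁻¹ ∈ N := by
  have hP : ∀ v c : G, IsConj x v → IsConj x (c * v * c⁻¹) := by
    intro v c hv
    exact hv.trans (isConj_iff.mpr ⟨c, rfl⟩)
  refine ⟨stabP (fun v => IsConj x v) hP, inferInstance,
    card_stabP_dvd _ hP (IsConj.refl x), ?_⟩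
  intro c
  refine diff_mem_stabP _ hP y ?_ ?_ c
  · intro w hw
    rw [index_of_isConj hw]; exact hco
  · intro w hw
    have h1 : IsConj (x * y) (w * y) := isConj_mul hco hw (IsConj.refl y)
    rw [index_of_isConj h1, index_of_isConj hw, heq]

/-- If the differences of the conjugates of the `q`-element `y` lie in a normal `r`-subgroup,
`r ≠ q`, then the class size of `y` is a power of `r`. -/
theorem index_pow_of_normal_diff [Finite G] {q : ℕ} [Fact q.Prime] {r : ℕ} (hr : r.Prime)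
    (hrq : r ≠ q) {y : G} (hy : QE q y) (N : Subgroup G) [N.Normal] {j : ℕ}
    (hN : Nat.card N = r ^ j) (hd : ∀ c : G, (c * y * c⁻¹) * y⁻¹ ∈ N) :
    ∃ b : ℕ, (cen y).index = r ^ b := by
  classical
  have hq : q.Prime := Fact.out
  set M : Subgroup G := N ⊔ Subgroup.zpowers y with hM
  have hyM : y ∈ M := (le_sup_right : Subgroup.zpowers y ≤ M) (Subgroup.mem_zpowers y)
  have hcM : ∀ c : G, c * y * c⁻¹ ∈ M := by
    intro c
    have e : c * y * c⁻¹ = (c * y * c⁻¹ * y⁻¹) * y := by group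
    rw [e]
    exact M.mul_mem ((le_sup_left : N ≤ M) (hd c)) hyM
  have hqe : ∀ (z : G) (hz : z ∈ M), QE q z →
      IsPGroup q (Subgroup.zpowers (⟨z, hz⟩ : M)) := by
    intro z hz ⟨k, hk⟩
    exact IsPGroup.of_card (n := k) (by rw [Nat.card_zpowers, ← Subgroup.orderOf_coe]; exact hk)
  obtain ⟨P, hP⟩ := (hqe y hyM hy).exists_le_sylow
  have hyP : (⟨y, hyM⟩ : M) ∈ P := hP (Subgroup.mem_zpowers _)
  have key : ∀ c : G, ∃ n ∈ N, ∃ d ∈ cen y, c = n * d := by
    intro c
    obtain ⟨P', hP'⟩ := (hqe _ (hcM c) (hy.conj c)).exists_le_sylow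
    have hcP' : (⟨c * y * c⁻¹, hcM c⟩ : M) ∈ P' := hP' (Subgroup.mem_zpowers _)
    obtain ⟨m, hm⟩ := MulAction.exists_smul_eq M P' P
    have h1 : m * ⟨c * y * c⁻¹, hcM c⟩ * m⁻¹ ∈ P := by
      rw [← hm, Cfsg.Agent.H72.mem_sylow_smul]
      have e : m⁻¹ * (m * ⟨c * y * c⁻¹, hcM c⟩ * m⁻¹) * m = ⟨c * y * c⁻¹, hcM c⟩ := by group
      rw [e]; exact hcP'
    have h2 : m * ⟨c * y * c⁻¹, hcM c⟩ * m⁻¹ * (⟨y, hyM⟩ : M)⁻¹ ∈ P :=
      (P : Subgroup M).mul_mem h1 ((P : Subgroup M).inv_mem hyP)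
    obtain ⟨k, hk⟩ := P.isPGroup' ⟨_, h2⟩
    have hk' : ((m : G) * (c * y * c⁻¹) * (m : G)⁻¹ * y⁻¹) ^ (q ^ k) = 1 := by
      have := congrArg (fun t : P => ((t : M) : G)) hk
      simpa using this
    have htN : (m : G) * (c * y * c⁻¹) * (m : G)⁻¹ * y⁻¹ ∈ N := by
      have := hd ((m : G) * c)
      have e : (m : G) * c * y * ((m : G) * c)⁻¹ * y⁻¹
          = (m : G) * (c * y * c⁻¹) * (m : G)⁻¹ * y⁻¹ := by group
      rwa [e] at this
    have hpow : ((m : G) * (c * y * c⁻¹) * (m : G)⁻¹ * y⁻¹) ^ (r ^ j) = 1 := by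
      have := pow_card_eq_one' (G := N) (x := ⟨_, htN⟩)
      rw [hN] at this
      exact congrArg Subtype.val this
    have ht1 : (m : G) * (c * y * c⁻¹) * (m : G)⁻¹ * y⁻¹ = 1 :=
      eq_one_of_pow_coprime _ (q ^ k) (r ^ j) hk' hpow
        (Nat.Coprime.pow _ _ ((Nat.coprime_primes hq hr).mpr (Ne.symm hrq)))
    have hmc : (m : G) * c ∈ cen y := by
      rw [mem_cen]
      have e : (m : G) * c * y * ((m : G) * c)⁻¹ = y := by
        have e' : (m : G) * c * y * ((m : G) * c)⁻¹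
            = ((m : G) * (c * y * c⁻¹) * (m : G)⁻¹ * y⁻¹) * y := by group
        rw [e', ht1, one_mul]
      calc (m : G) * c * y = ((m : G) * c * y * ((m : G) * c)⁻¹) * ((m : G) * c) := by group
        _ = y * ((m : G) * c) := by rw [e]
    have hm'' : (m : G)⁻¹ ∈ ((N ⊔ Subgroup.zpowers y : Subgroup G) : Set G) := M.inv_mem m.2
    rw [Subgroup.normal_mul, Set.mem_mul] at hm''
    obtain ⟨n, hn, z, hz, hnz⟩ := hm''
    refine ⟨n, hn, z * ((m : G) * c),
      (cen y).mul_mem ((Subgroup.zpowers_le.mpr (self_mem_cen y)) hz) hmc, ?_⟩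
    rw [← mul_assoc, hnz]; group
  have horb : MulAction.orbit N (QuotientGroup.mk 1 : G ⧸ cen y) = Set.univ := by
    apply Set.eq_univ_of_forall
    intro gb
    induction gb using QuotientGroup.induction_on with
    | H g =>
      obtain ⟨n, hn, d, hd', rfl⟩ := key g
      refine ⟨⟨n, hn⟩, ?_⟩
      change (QuotientGroup.mk (n * 1) : G ⧸ cen y) = QuotientGroup.mk (n * d)
      rw [mul_one, QuotientGroup.eq]
      simpa using hd'
  have h1 : (MulAction.stabilizer N (QuotientGroup.mk 1 : G ⧸ cen y)).index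
      = (cen y).index := by
    rw [MulAction.index_stabilizer, horb, Set.ncard_univ, Subgroup.index_eq_card]
  have h2 : (cen y).index ∣ r ^ j := by
    rw [← h1, ← hN]
    exact Subgroup.index_dvd_card _
  obtain ⟨b, _, hb⟩ := (Nat.dvd_prime_pow hr).mp h2
  exact ⟨b, hb⟩

end Cfsg.Agent.Lib.Helper30.Baer
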