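import Mathlib
import Cfsg.Agent.Lib.Helper30.BaerG1a

/-!
# q-Baer groups (S4125), group side, pieces G1 and G2

* `exists_conj_complement_le_cen` : if the Sylow `q`-subgroup `Q` is normal with complement `H`,
  an element with `q`-power class size is centralized by a `Q`-conjugate of `H`.
* `case_eq` (G2) : if all `q`-elements have `q`-power class size, `Q` is a direct factor.
* `exists_prime` (G1) : one prime serves all `q`-elements.
-/

set_option autoImplicit false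

namespace Cfsg.Agent.Lib.Helper30.Baer

open Cfsg.Agent.H72.Ito Cfsg.Agent.H72.BHM
open scoped Pointwise

universe u

variable {G : Type u} [Group G]

theorem sylow_normal_of_forall {q : ℕ} [Fact q.Prime] (Q : Sylow q G)
    (h : ∀ y : G, QE q y → y ∈ Q) : (Q : Subgroup G).Normal := by
  constructor
  intro n hn g
  exact h _ ((qe_of_mem_sylow Q hn).conj g)

/-- If the Sylow `q`-subgroup `Q` is normal with complement `H`, an element with `q`-power class
size is centralized by a `Q`-conjugate of `H`. -/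
theorem exists_conj_complement_le_cen [Finite G] {q : ℕ} [Fact q.Prime] (Q : Sylow q G)
    [hQn : (Q : Subgroup G).Normal] (H : Subgroup G)
    (hQH : Subgroup.IsComplement' (Q : Subgroup G) H) {w : G} {a : ℕ}
    (ha : (cen w).index = q ^ a) :
    ∃ u ∈ (Q : Subgroup G), ∀ h ∈ H, (u * h * u⁻¹) * w = w * (u * h * u⁻¹) := by
  classical
  set C : Subgroup G := cen w with hC
  have hcop : (Nat.card (Q : Subgroup G)).Coprime (Q : Subgroup G).index := Q.card_coprime_index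
  have hidx : ((Q : Subgroup G).subgroupOf C).index = (Q : Subgroup G).index := by
    show (Q : Subgroup G).relIndex C = _
    exact Cfsg.Agent.H1.relIndex_eq_index_of_coprime C (Q : Subgroup G)
      (by rw [ha]; exact (coprime_sylow_index_pow Q a).symm)
  have hcard : Nat.card ((Q : Subgroup G).subgroupOf C) ∣ Nat.card (Q : Subgroup G) := by
    rw [Cfsg.Agent.H1.card_subgroupOf]
    exact Subgroup.card_dvd_of_le inf_le_left
  have hcop' : (Nat.card ((Q : Subgroup G).subgroupOf C)).Coprime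
      ((Q : Subgroup G).subgroupOf C).index := by
    rw [hidx]
    exact Nat.Coprime.coprime_dvd_left hcard hcop
  obtain ⟨H₁', hH₁'⟩ := Subgroup.exists_right_complement'_of_coprime hcop'
  set H₁ : Subgroup G := H₁'.map C.subtype with hH₁
  have hH₁card : Nat.card H₁ = (Q : Subgroup G).index := by
    rw [hH₁, Subgroup.card_map_of_injective C.subtype_injective, ← hidx]
    exact hH₁'.symm.index_eq_card.symm
  have hHcard : Nat.card H = (Q : Subgroup G).index := hQH.symm.index_eq_card.symm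
  have hsolv : Group.IsSolvable (Q : Subgroup G) := by
    have : Group.IsNilpotent (Q : Subgroup G) := Q.isPGroup'.isNilpotent
    infer_instance
  obtain ⟨g, hg⟩ := Cfsg.Agent.H1.sz_conj_card (Q : Subgroup G) H H₁ hcop (Or.inl hsolv)
    hHcard hH₁card
  obtain ⟨⟨u, h₀⟩, hx⟩ := hQH.2 g
  have hx' : (u : G) * (h₀ : G) = g := hx
  refine ⟨u, u.2, ?_⟩
  intro h hh
  have h1 : g * ((h₀ : G)⁻¹ * h * h₀) * g⁻¹ ∈ MulAut.conj g • H :=
    Cfsg.Agent.H1.conj_mem_conj_smul g _ H (H.mul_mem (H.mul_mem (H.inv_mem h₀.2) hh) h₀.2)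
  rw [hg] at h1
  have h2 : g * ((h₀ : G)⁻¹ * h * h₀) * g⁻¹ = (u : G) * h * (u : G)⁻¹ := by rw [← hx']; group
  rw [h2] at h1
  have h3 : (u : G) * h * (u : G)⁻¹ ∈ C := Subgroup.map_subtype_le _ h1
  exact mem_cen.mp h3

/-- A subgroup is not covered by the conjugates (under itself) of a smaller subgroup. -/
theorem le_of_conj_cover [Finite G] (Q D : Subgroup G)
    (h : ∀ g ∈ Q, ∃ u ∈ Q, u⁻¹ * g * u ∈ D) : Q ≤ D := by
  have h0 := Cfsg.Agent.H72.eq_top_of_conj_cover (G := Q) (D.subgroupOf Q) (by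
    intro g
    obtain ⟨u, hu, hd⟩ := h g g.2
    exact ⟨⟨u, hu⟩, by rw [Subgroup.mem_subgroupOf]; simpa using hd⟩)
  intro g hg
  have h1 : (⟨g, hg⟩ : Q) ∈ D.subgroupOf Q := by rw [h0]; trivial
  exact Subgroup.mem_subgroupOf.mp h1

/-- **S4125, piece G2.** -/
theorem case_eq {G : Type u} [Group G] [Finite G] (q : ℕ) [Fact q.Prime]
    (h : ∀ x : G, (∃ k : ℕ, orderOf x = q ^ k) →
      ∃ a : ℕ, (Subgroup.centralizer ({x} : Set G)).index = q ^ a) (Q : Sylow q G) :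
    (Q : Subgroup G).Normal ∧
      ∃ N : Subgroup G, N.Normal ∧ N.IsComplement' (Q : Subgroup G) := by
  have hall : ∀ y : G, QE q y → y ∈ Q := by
    intro y hy
    obtain ⟨a, ha⟩ := h y hy
    exact mem_sylow_of_pow_index hy ha Q
  have hQn : (Q : Subgroup G).Normal := sylow_normal_of_forall Q hall
  refine ⟨hQn, ?_⟩
  obtain ⟨H, hQH⟩ := Subgroup.exists_right_complement'_of_coprime Q.card_coprime_index
  have hcov : (Q : Subgroup G) ≤ Subgroup.centralizer (H : Set G) := by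
    apply le_of_conj_cover (Q : Subgroup G) (Subgroup.centralizer (H : Set G))
    intro g hg
    obtain ⟨a, ha⟩ := h g (qe_of_mem_sylow Q hg)
    obtain ⟨u, hu, huc⟩ := exists_conj_complement_le_cen Q H hQH ha
    refine ⟨u, hu, ?_⟩
    rw [Subgroup.mem_centralizer_iff]
    intro t ht
    have := huc t ht
    calc t * (u⁻¹ * g * u) = u⁻¹ * ((u * t * u⁻¹) * g) * u := by group
      _ = u⁻¹ * (g * (u * t * u⁻¹)) * u := by rw [this]
      _ = u⁻¹ * g * u * t := by group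
  refine ⟨H, ?_, hQH.symm⟩
  constructor
  intro n hn g
  obtain ⟨⟨u, h₀⟩, hx⟩ := hQH.2 g
  have hx' : (u : G) * (h₀ : G) = g := hx
  have hun : ∀ t ∈ H, (u : G) * t * (u : G)⁻¹ = t := by
    intro t ht
    have := (Subgroup.mem_centralizer_iff.mp (hcov u.2)) t ht
    rw [← this]; group
  have e : g * n * g⁻¹ = (u : G) * ((h₀ : G) * n * (h₀ : G)⁻¹) * (u : G)⁻¹ := by
    rw [← hx']; group
  rw [e, hun _ (H.mul_mem (H.mul_mem h₀.2 hn) (H.inv_mem h₀.2))]
  exact H.mul_mem (H.mul_mem h₀.2 hn) (H.inv_mem h₀.2)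

/-- Two commuting `q`-elements of distinct types `p₁ ≠ q` and `p₂`: the product cannot have the
class size of the first. -/
theorem no_mixed_aux [Finite G] {q : ℕ} [Fact q.Prime] {x y : G} (hy : QE q y)
    {p₁ p₂ a b : ℕ} (h1 : p₁.Prime) (h2 : p₂.Prime) (hne : p₁ ≠ p₂) (h1q : p₁ ≠ q)
    (hx : (cen x).index = p₁ ^ a) (hyi : (cen y).index = p₂ ^ b) (hb : b ≠ 0)
    (heq : (cen (x * y)).index = (cen x).index) : False := by
  have hco : (cen x).index.Coprime (cen y).index := by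
    rw [hx, hyi]; exact Nat.Coprime.pow _ _ ((Nat.coprime_primes h1 h2).mpr hne)
  obtain ⟨N, hNn, hNd, hdiff⟩ := exists_normal_diff hco heq
  rw [hx] at hNd
  obtain ⟨j, _, hj⟩ := (Nat.dvd_prime_pow h1).mp hNd
  obtain ⟨b', hb'⟩ := index_pow_of_normal_diff h1 h1q hy N hj hdiff
  rw [hyi] at hb'
  have hd : p₂ ∣ p₁ ^ b' := by rw [← hb']; exact dvd_pow_self p₂ hb
  exact hne ((Nat.prime_dvd_prime_iff_eq h2 h1).mp (h2.dvd_of_dvd_pow hd)).symm

/-- (U1) There are no two `q`-elements of distinct types both different from `q`. -/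
theorem no_two_types_ne [Finite G] {q : ℕ} [Fact q.Prime]
    (hBaer : ∀ x : G, QE q x → ∃ (r : ℕ) (a : ℕ), r.Prime ∧ (cen x).index = r ^ a)
    {x y : G} (hx : QE q x) (hy : QE q y) {p₁ p₂ a b : ℕ} (h1 : p₁.Prime) (h2 : p₂.Prime)
    (hne : p₁ ≠ p₂) (h1q : p₁ ≠ q) (h2q : p₂ ≠ q) (hxi : (cen x).index = p₁ ^ a)
    (hyi : (cen y).index = p₂ ^ b) (ha : a ≠ 0) (hb : b ≠ 0) : False := by
  have hq : q.Prime := Fact.out
  have hnd1 : ¬ q ∣ (cen x).index := by
    rw [hxi]; intro hd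
    exact h1q ((Nat.prime_dvd_prime_iff_eq hq h1).mp (hq.dvd_of_dvd_pow hd)).symm
  obtain ⟨Q₁, hxQ, hQx⟩ := exists_sylow_central hx hnd1
  obtain ⟨Q₂, hyQ⟩ := exists_sylow_mem hy
  obtain ⟨g, hg⟩ := MulAction.exists_smul_eq G Q₂ Q₁
  have hy'Q : g * y * g⁻¹ ∈ Q₁ := by
    rw [← hg, Cfsg.Agent.H72.mem_sylow_smul]
    have e : g⁻¹ * (g * y * g⁻¹) * g = y := by group
    rw [e]; exact hyQ
  have hy'i : (cen (g * y * g⁻¹)).index = p₂ ^ b := by rw [index_conj]; exact hyi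
  have hy'qe : QE q (g * y * g⁻¹) := hy.conj g
  have hcomm : (g * y * g⁻¹) * x = x * (g * y * g⁻¹) := mem_cen.mp (hQx hy'Q)
  have hxy : QE q (x * (g * y * g⁻¹)) := hx.mul hy'qe hcomm.symm
  obtain ⟨r, c, hr, hrc⟩ := hBaer _ hxy
  have hco : (cen x).index.Coprime (cen (g * y * g⁻¹)).index := by
    rw [hxi, hy'i]; exact Nat.Coprime.pow _ _ ((Nat.coprime_primes h1 h2).mpr hne)
  have hd := index_mul_dvd hco
  have hl1 := index_le_mul_left hco
  have hl2 := index_le_mul_right hco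
  rw [hrc, hxi, hy'i] at hd
  rw [hrc, hxi] at hl1
  rw [hrc, hy'i] at hl2
  rcases pp_dichotomy h1 h2 hr hne hl1 hl2 hd with h | h
  · exact no_mixed_aux hy'qe h1 h2 hne h1q hxi hy'i hb (by rw [hrc, hxi, h])
  · have heq : (cen ((g * y * g⁻¹) * x)).index = (cen (g * y * g⁻¹)).index := by
      rw [hcomm, hrc, hy'i, h]
    exact no_mixed_aux hx h2 h1 (Ne.symm hne) h2q hy'i hxi ha heq

/-- If `x` has type `q` and `y` has class size a power of `p ≠ q`, then `x`, `y` commute and `xy`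
has `q`-power class size. -/
theorem type_q_mul [Finite G] {q : ℕ} [Fact q.Prime]
    (hBaer : ∀ x : G, QE q x → ∃ (r : ℕ) (a : ℕ), r.Prime ∧ (cen x).index = r ^ a)
    {x y : G} (hx : QE q x) {a : ℕ} (hxi : (cen x).index = q ^ a) (ha : a ≠ 0)
    (hy : QE q y) {p b : ℕ} (hp : p.Prime) (hpq : p ≠ q) (hyi : (cen y).index = p ^ b) :
    (∃ a' : ℕ, (cen (x * y)).index = q ^ a') ∧ x * y = y * x := by
  have hq : q.Prime := Fact.out
  have hnd : ¬ q ∣ (cen y).index := by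
    rw [hyi]; intro hd
    exact hpq ((Nat.prime_dvd_prime_iff_eq hq hp).mp (hq.dvd_of_dvd_pow hd)).symm
  obtain ⟨Q₁, hyQ, hQy⟩ := exists_sylow_central hy hnd
  have hxQ : x ∈ Q₁ := mem_sylow_of_pow_index hx hxi Q₁
  have hcomm : x * y = y * x := mem_cen.mp (hQy hxQ)
  refine ⟨?_, hcomm⟩
  have hxy : QE q (x * y) := hx.mul hy hcomm
  obtain ⟨r, c, hr, hrc⟩ := hBaer _ hxy
  have hco : (cen x).index.Coprime (cen y).index := by
    rw [hxi, hyi]; exact Nat.Coprime.pow _ _ ((Nat.coprime_primes hq hp).mpr (Ne.symm hpq))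
  have hd := index_mul_dvd hco
  have hl1 := index_le_mul_left hco
  have hl2 := index_le_mul_right hco
  rw [hrc, hxi, hyi] at hd
  rw [hrc, hxi] at hl1
  rw [hrc, hyi] at hl2
  rcases pp_dichotomy hq hp hr (Ne.symm hpq) hl1 hl2 hd with h | h
  · exact ⟨a, by rw [hrc, h]⟩
  · exfalso
    have heq : (cen (y * x)).index = (cen y).index := by rw [← hcomm, hrc, hyi, h]
    obtain ⟨N, hNn, hNd, hdiff⟩ := exists_normal_diff hco.symm heq
    rw [hyi] at hNd
    obtain ⟨j, _, hj⟩ := (Nat.dvd_prime_pow hp).mp hNd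
    have hco' : (Nat.card N).Coprime (cen x).index := by
      rw [hj, hxi]; exact Nat.Coprime.pow _ _ ((Nat.coprime_primes hp hq).mpr hpq)
    have hcen := (cen_of_diff N x hdiff hco').2
    rw [hj] at hcen
    obtain ⟨k, hk⟩ := hx.pow_eq_one
    have hxc : x ∈ Subgroup.center G :=
      mem_of_pow_mem_coprime (Subgroup.center G) x (p ^ j) (q ^ k) hcen
        (by rw [hk]; exact one_mem _)
        (Nat.Coprime.pow _ _ ((Nat.coprime_primes hp hq).mpr hpq))
    have h1 : (cen x).index = 1 := by rw [cen_eq_top_iff.mpr hxc, Subgroup.index_top]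
    rw [hxi] at h1
    have := Nat.one_lt_pow ha hq.one_lt
    omega

/-- If some `q`-element has type `q`, all `q`-elements lie in every Sylow `q`-subgroup. -/
theorem mem_sylow_of_exists_type_q [Finite G] {q : ℕ} [Fact q.Prime]
    (hBaer : ∀ x : G, QE q x → ∃ (r : ℕ) (a : ℕ), r.Prime ∧ (cen x).index = r ^ a)
    {x : G} (hx : QE q x) {a : ℕ} (hxi : (cen x).index = q ^ a) (ha : a ≠ 0)
    {y : G} (hy : QE q y) (Q : Sylow q G) : y ∈ Q := by
  obtain ⟨r, b, hr, hrb⟩ := hBaer y hy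
  by_cases hrq : r = q
  · rw [hrq] at hrb
    exact mem_sylow_of_pow_index hy hrb Q
  · obtain ⟨⟨a', ha'⟩, hcomm⟩ := type_q_mul hBaer hx hxi ha hy hr hrq hrb
    have h1 : x * y ∈ Q := mem_sylow_of_pow_index (hx.mul hy hcomm) ha' Q
    have h2 : x ∈ Q := mem_sylow_of_pow_index hx hxi Q
    have e : x⁻¹ * (x * y) = y := by group
    rw [← e]
    exact (Q : Subgroup G).mul_mem ((Q : Subgroup G).inv_mem h2) h1

/-- `Z(Q) C_Q(H)` as a subgroup. -/
def zc (Q H : Subgroup G) : Subgroup G where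
  carrier := {g | ∃ z ∈ Q, (∀ t ∈ Q, t * z = z * t) ∧
    ∃ d ∈ Q, (∀ h ∈ H, h * d = d * h) ∧ g = z * d}
  one_mem' := ⟨1, one_mem _, by simp, 1, one_mem _, by simp, by simp⟩
  mul_mem' := by
    rintro _ _ ⟨z₁, hz₁, hc₁, d₁, hd₁, hh₁, rfl⟩ ⟨z₂, hz₂, hc₂, d₂, hd₂, hh₂, rfl⟩
    refine ⟨z₁ * z₂, mul_mem hz₁ hz₂, ?_, d₁ * d₂, mul_mem hd₁ hd₂, ?_, ?_⟩
    · intro t ht
      calc t * (z₁ * z₂) = (t * z₁) * z₂ := by group
        _ = z₁ * (t * z₂) := by rw [hc₁ t ht]; group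
        _ = z₁ * z₂ * t := by rw [hc₂ t ht]; group
    · intro h hh
      calc h * (d₁ * d₂) = (h * d₁) * d₂ := by group
        _ = d₁ * (h * d₂) := by rw [hh₁ h hh]; group
        _ = d₁ * d₂ * h := by rw [hh₂ h hh]; group
    · calc z₁ * d₁ * (z₂ * d₂) = z₁ * (d₁ * z₂) * d₂ := by group
        _ = z₁ * (z₂ * d₁) * d₂ := by rw [hc₂ d₁ hd₁]
        _ = z₁ * z₂ * (d₁ * d₂) := by group
  inv_mem' := by
    rintro _ ⟨z, hz, hc, d, hd, hh, rfl⟩
    refine ⟨z⁻¹, inv_mem hz, ?_, d⁻¹, inv_mem hd, ?_, ?_⟩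
    · intro t ht
      have := hc t ht
      calc t * z⁻¹ = z⁻¹ * (z * t) * z⁻¹ := by group
        _ = z⁻¹ * (t * z) * z⁻¹ := by rw [this]
        _ = z⁻¹ * t := by group
    · intro h hh'
      have := hh h hh'
      calc h * d⁻¹ = d⁻¹ * (d * h) * d⁻¹ := by group
        _ = d⁻¹ * (h * d) * d⁻¹ := by rw [this]
        _ = d⁻¹ * h := by group
    · rw [← hc d hd, mul_inv_rev]

theorem mem_zc {Q H : Subgroup G} {g : G} : g ∈ zc Q H ↔ ∃ z ∈ Q, (∀ t ∈ Q, t * z = z * t) ∧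
    ∃ d ∈ Q, (∀ h ∈ H, h * d = d * h) ∧ g = z * d := Iff.rfl

/-- (U2) There are no two `q`-elements of types `q` and `p ≠ q`. -/
theorem no_two_types_q [Finite G] {q : ℕ} [Fact q.Prime]
    (hBaer : ∀ x : G, QE q x → ∃ (r : ℕ) (a : ℕ), r.Prime ∧ (cen x).index = r ^ a)
    {x y : G} (hx : QE q x) (hy : QE q y) {p a b : ℕ} (hp : p.Prime) (hpq : p ≠ q)
    (hxi : (cen x).index = q ^ a) (hyi : (cen y).index = p ^ b) (ha : a ≠ 0) (hb : b ≠ 0) :
    False := by
  classical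
  have hq : q.Prime := Fact.out
  obtain ⟨Q⟩ : Nonempty (Sylow q G) := inferInstance
  have hall : ∀ (Q' : Sylow q G) (z : G), QE q z → z ∈ Q' :=
    fun Q' z hz => mem_sylow_of_exists_type_q hBaer hx hxi ha hz Q'
  have hQn : (Q : Subgroup G).Normal := sylow_normal_of_forall Q (hall Q)
  obtain ⟨H, hQH⟩ := Subgroup.exists_right_complement'_of_coprime Q.card_coprime_index
  have hcent : ∀ z : G, QE q z → ¬ q ∣ (cen z).index → (Q : Subgroup G) ≤ cen z := by
    intro z hz hnd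
    obtain ⟨Q₁, -, hQ₁⟩ := exists_sylow_central hz hnd
    intro t ht
    exact hQ₁ (hall Q₁ t (qe_of_mem_sylow Q ht))
  have hQD : (Q : Subgroup G) ≤ zc (Q : Subgroup G) H := by
    apply le_of_conj_cover
    intro g hg
    have hgq := qe_of_mem_sylow Q hg
    obtain ⟨r, c, hr, hrc⟩ := hBaer g hgq
    by_cases hrq : r = q
    · rw [hrq] at hrc
      obtain ⟨u, hu, huc⟩ := exists_conj_complement_le_cen Q H hQH hrc
      refine ⟨u, hu, 1, one_mem _, by simp, u⁻¹ * g * u,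
        mul_mem (mul_mem (inv_mem hu) hg) hu, ?_, by simp⟩
      intro t ht
      have := huc t ht
      calc t * (u⁻¹ * g * u) = u⁻¹ * ((u * t * u⁻¹) * g) * u := by group
        _ = u⁻¹ * (g * (u * t * u⁻¹)) * u := by rw [this]
        _ = u⁻¹ * g * u * t := by group
    · have hnd : ¬ q ∣ (cen g).index := by
        rw [hrc]; intro hd
        exact hrq ((Nat.prime_dvd_prime_iff_eq hq hr).mp (hq.dvd_of_dvd_pow hd)).symm
      have hQg := hcent g hgq hnd
      refine ⟨1, one_mem _, ?_⟩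
      have e : (1 : G)⁻¹ * g * 1 = g := by group
      rw [e]
      refine ⟨g, hg, ?_, 1, one_mem _, by simp, by simp⟩
      intro t ht
      exact mem_cen.mp (hQg ht)
  have hxQ : x ∈ (Q : Subgroup G) := hall Q x hx
  have hnd : ¬ q ∣ (cen y).index := by
    rw [hyi]; intro hd
    exact hpq ((Nat.prime_dvd_prime_iff_eq hq hp).mp (hq.dvd_of_dvd_pow hd)).symm
  have hQy : (Q : Subgroup G) ≤ cen y := hcent y hy hnd
  obtain ⟨⟨a', hxy⟩, hcomm⟩ := type_q_mul hBaer hx hxi ha hy hp hpq hyi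
  obtain ⟨u, hu, huc⟩ := exists_conj_complement_le_cen Q H hQH hxi
  obtain ⟨w, hw, hwc⟩ := exists_conj_complement_le_cen Q H hQH hxy
  obtain ⟨z, hz, hzc, d, hd, hdh, hv⟩ := hQD (mul_mem (inv_mem hu) hw)
  have hHy : H ≤ cen y := by
    intro h hh
    rw [mem_cen]
    have e1 : h * (u⁻¹ * x * u) = (u⁻¹ * x * u) * h := by
      have := huc h hh
      calc h * (u⁻¹ * x * u) = u⁻¹ * ((u * h * u⁻¹) * x) * u := by group
        _ = u⁻¹ * (x * (u * h * u⁻¹)) * u := by rw [this]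
        _ = u⁻¹ * x * u * h := by group
    have e2 : w⁻¹ * x * w = d⁻¹ * (u⁻¹ * x * u) * d := by
      have hw' : w = u * (z * d) := by rw [← hv]; group
      have hzx : (u⁻¹ * x * u) * z = z * (u⁻¹ * x * u) :=
        hzc _ (mul_mem (mul_mem (inv_mem hu) hxQ) hu)
      rw [hw']
      calc (u * (z * d))⁻¹ * x * (u * (z * d))
          = d⁻¹ * z⁻¹ * ((u⁻¹ * x * u) * z) * d := by group
        _ = d⁻¹ * z⁻¹ * (z * (u⁻¹ * x * u)) * d := by rw [hzx]
        _ = d⁻¹ * (u⁻¹ * x * u) * d := by group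
    have e3 : h * (w⁻¹ * x * w) = (w⁻¹ * x * w) * h := by
      rw [e2]
      have hd' := hdh h hh
      calc h * (d⁻¹ * (u⁻¹ * x * u) * d)
          = d⁻¹ * (d * h) * d⁻¹ * (u⁻¹ * x * u) * d := by group
        _ = d⁻¹ * (h * d) * d⁻¹ * (u⁻¹ * x * u) * d := by rw [hd']
        _ = d⁻¹ * (h * (u⁻¹ * x * u)) * d := by group
        _ = d⁻¹ * ((u⁻¹ * x * u) * h) * d := by rw [e1]
        _ = d⁻¹ * (u⁻¹ * x * u) * (h * d) := by group
        _ = d⁻¹ * (u⁻¹ * x * u) * (d * h) := by rw [hd']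
        _ = d⁻¹ * (u⁻¹ * x * u) * d * h := by group
    have e4 : h * (w⁻¹ * (x * y) * w) = (w⁻¹ * (x * y) * w) * h := by
      have := hwc h hh
      calc h * (w⁻¹ * (x * y) * w) = w⁻¹ * ((w * h * w⁻¹) * (x * y)) * w := by group
        _ = w⁻¹ * ((x * y) * (w * h * w⁻¹)) * w := by rw [this]
        _ = w⁻¹ * (x * y) * w * h := by group
    have hwy : w * y = y * w := mem_cen.mp (hQy hw)
    have e5 : w⁻¹ * (x * y) * w = (w⁻¹ * x * w) * y := by
      calc w⁻¹ * (x * y) * w = w⁻¹ * x * (y * w) := by group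
        _ = w⁻¹ * x * (w * y) := by rw [hwy]
        _ = (w⁻¹ * x * w) * y := by group
    rw [e5] at e4
    calc h * y = (w⁻¹ * x * w)⁻¹ * ((w⁻¹ * x * w) * h) * y := by group
      _ = (w⁻¹ * x * w)⁻¹ * (h * (w⁻¹ * x * w)) * y := by rw [e3]
      _ = (w⁻¹ * x * w)⁻¹ * (h * ((w⁻¹ * x * w) * y)) := by group
      _ = (w⁻¹ * x * w)⁻¹ * (((w⁻¹ * x * w) * y) * h) := by rw [e4]
      _ = y * h := by group
  have htop : cen y = ⊤ := by
    rw [eq_top_iff]
    intro g _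
    obtain ⟨⟨u', h₀⟩, hx'⟩ := hQH.2 g
    have hx'' : (u' : G) * (h₀ : G) = g := hx'
    rw [← hx'']
    exact (cen y).mul_mem (hQy u'.2) (hHy h₀.2)
  have h1 : (cen y).index = 1 := by rw [htop, Subgroup.index_top]
  rw [hyi] at h1
  have := Nat.one_lt_pow hb hp.one_lt
  omega

/-- **S4125, piece G1**: one prime serves all `q`-elements. -/
theorem exists_prime {G : Type u} [Group G] [Finite G] (q : ℕ) [Fact q.Prime]
    (hBaer : ∀ x : G, (∃ k : ℕ, orderOf x = q ^ k) →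
      ∃ (r : ℕ) (a : ℕ), r.Prime ∧ (Subgroup.centralizer ({x} : Set G)).index = r ^ a) :
    ∃ p : ℕ, p.Prime ∧ (∀ x : G, (∃ k : ℕ, orderOf x = q ^ k) →
      ∃ a : ℕ, (Subgroup.centralizer ({x} : Set G)).index = p ^ a) := by
  have hq : q.Prime := Fact.out
  by_cases hall : ∀ x : G, QE q x → (cen x).index = 1
  · exact ⟨q, hq, fun x hx => ⟨0, by rw [pow_zero]; exact hall x hx⟩⟩
  · push Not at hall
    obtain ⟨x₀, hx₀, hne₀⟩ := hall
    obtain ⟨r₀, a₀, hr₀, ha₀⟩ := hBaer x₀ hx₀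
    have ha₀' : a₀ ≠ 0 := by
      rintro rfl
      exact hne₀ (by rw [ha₀, pow_zero])
    refine ⟨r₀, hr₀, ?_⟩
    intro x hx
    obtain ⟨r, a, hr, ha⟩ := hBaer x hx
    by_cases ha0 : a = 0
    · exact ⟨0, by rw [ha, ha0, pow_zero, pow_zero]⟩
    by_cases hrr : r = r₀
    · exact ⟨a, by rw [ha, hrr]⟩
    exfalso
    by_cases h1 : r = q
    · rw [h1] at ha
      exact no_two_types_q hBaer hx hx₀ hr₀ (fun h => hrr (h1.trans h.symm)) ha ha₀ ha0 ha₀'
    by_cases h2 : r₀ = q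
    · rw [h2] at ha₀
      exact no_two_types_q hBaer hx₀ hx hr h1 ha₀ ha ha₀' ha0
    exact no_two_types_ne hBaer hx hx₀ hr hr₀ hrr h1 h2 ha ha₀ ha0 ha₀'

end Cfsg.Agent.Lib.Helper30.Baer
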