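import Mathlib
import Cfsg.Agent.H10.HO.Defs2

/-!
# HO-HG (helper10's project HO for S2075)

An automorphism `β` fixing `x`, `z`, `t` fixes `n`: `w₀ := n⁻¹ β(n)` commutes with every
`β`-fixed `d` whose conjugate `n d n⁻¹` is `β`-fixed, in particular with `z` and the listed
words; so `w₀ ∈ C(z)` is `z ^ a` or `z ^ a t`, and the non-commutation hypotheses leave `w₀ = 1`.
-/

set_option autoImplicit false

universe u

namespace Cfsg.Agent.Lib.Helper30.Ho

open Cfsg Cfsg.Agent.H10.HO

/-- An automorphism fixing `x`, `z`, `t` fixes every word in them. -/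
theorem evS_fixed {G : Type u} [Group G] (x z t : G) (β : MulAut G) (hx : β x = x)
    (hz : β z = z) (ht : β t = t) : ∀ w : List ℕ, β (evS x z t w) = evS x z t w := by
  intro w
  induction w with
  | nil =>
    show β 1 = 1
    exact map_one β
  | cons a w ih =>
    match a with
    | 0 =>
      show β (x * evS x z t w) = x * evS x z t w
      rw [map_mul, hx, ih]
    | 1 =>
      show β (x⁻¹ * evS x z t w) = x⁻¹ * evS x z t w
      rw [map_mul, map_inv, hx, ih]
    | 2 =>
      show β (z * evS x z t w) = z * evS x z t w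
      rw [map_mul, hz, ih]
    | 3 =>
      show β (z⁻¹ * evS x z t w) = z⁻¹ * evS x z t w
      rw [map_mul, map_inv, hz, ih]
    | (m + 4) =>
      show β (t * evS x z t w) = t * evS x z t w
      rw [map_mul, ht, ih]

theorem hg : StHG.{u} := by
  intro G _ x z t n k D hCz hnz hD hD1 hD2 hgen β hx hz ht
  have hev := evS_fixed x z t β hx hz ht
  obtain ⟨w0, hw0⟩ : ∃ w0 : G, w0 = n⁻¹ * β n := ⟨_, rfl⟩
  have key : ∀ d : G, β d = d → β (n * d * n⁻¹) = n * d * n⁻¹ → w0 * d = d * w0 := by
    intro d hd hnd
    have h1 : β n * d * (β n)⁻¹ = n * d * n⁻¹ := by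
      have h2 : β (n * d * n⁻¹) = β n * β d * (β n)⁻¹ := by
        rw [map_mul, map_mul, map_inv]
      rw [h2, hd] at hnd
      exact hnd
    rw [hw0]
    calc n⁻¹ * β n * d = n⁻¹ * (β n * d * (β n)⁻¹) * β n := by group
      _ = n⁻¹ * (n * d * n⁻¹) * β n := by rw [h1]
      _ = d * (n⁻¹ * β n) := by group
  have hwz : w0 * z = z * w0 := key z hz (by rw [hnz, map_pow, hz])
  have hwD : ∀ p ∈ D, w0 * evS x z t p.1 = evS x z t p.1 * w0 := by
    intro p hp
    exact key _ (hev p.1) (by rw [hD p hp]; exact hev p.2)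
  obtain ⟨a, ha, h | h⟩ := hCz w0 hwz
  · have ha0 : a = 0 := by
      by_contra hne
      obtain ⟨p, hp, hne'⟩ := hD1 a (Nat.pos_of_ne_zero hne) ha
      apply hne'
      rw [← h]
      exact hwD p hp
    rw [ha0, pow_zero] at h
    have hβn : β n = n := by
      have h3 : n⁻¹ * β n = 1 := by rw [← hw0, h]
      calc β n = n * (n⁻¹ * β n) := by group
        _ = n := by rw [h3, mul_one]
    have hβ : (β : G →* G) = MonoidHom.id G := by
      apply MonoidHom.eq_of_eqOn_dense hgen
      intro g hg
      simp only [Set.mem_insert_iff, Set.mem_singleton_iff] at hg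
      rcases hg with rfl | rfl | rfl | rfl
      · simpa using hx
      · simpa using hz
      · simpa using ht
      · simpa using hβn
    apply MulEquiv.ext
    intro g
    have := DFunLike.congr_fun hβ g
    simpa using this
  · exfalso
    obtain ⟨p, hp, hne'⟩ := hD2 a ha
    apply hne'
    rw [← h]
    exact hwD p hp

example : StHG.{u} := hg

end Cfsg.Agent.Lib.Helper30.Ho
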