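import Mathlib
import Cfsg.Agent.H10.HO.Defs

/-!
# HO-NCXB (helper10's project HO for S2075)

`x` of order 17 in `G` with `|G| = 17 m`, `m ≡ 8 (mod 17)`; `z` of order dividing 8 with
`z x z⁻¹ = x²`; every element commuting with `z` has 8-th power 1; `|C(x)|` is odd and
divides `1958400`.  Then `C(x) = ⟨x⟩`.
-/

set_option autoImplicit false

universe u

namespace Cfsg.Agent.Lib.Helper30.Ho

open Cfsg Cfsg.Agent.H10.HO

/-- Conjugation by `g` maps `⟨x⟩` into itself as soon as it maps `x` into `⟨x⟩`. -/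
theorem conj_mem_zpowers {G : Type u} [Group G] {x g : G}
    (h : g * x * g⁻¹ ∈ Subgroup.zpowers x) :
    ∀ y ∈ Subgroup.zpowers x, g * y * g⁻¹ ∈ Subgroup.zpowers x := by
  intro y hy
  obtain ⟨k, rfl⟩ := Subgroup.mem_zpowers_iff.mp hy
  rw [← conj_zpow]
  exact zpow_mem h k

/-- Arithmetic: a divisor `c` of `225` with `8 c ≡ 8 (mod 17)` is `1`. -/
theorem arith225 : ∀ c ∈ Nat.divisors 225, (c * 8) % 17 = 8 → c = 1 := by decide

theorem ncxb : StNCXB.{u} := by
  intro G _ _ x z m hG hm hx17 hx1 hzx hz8 hCz hodd hdvd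
  have hp17 : Fact (Nat.Prime 17) := ⟨by norm_num⟩
  have hp2 : Fact (Nat.Prime 2) := ⟨Nat.prime_two⟩
  have hord : orderOf x = 17 := orderOf_eq_prime hx17 hx1
  obtain ⟨P, hP⟩ : ∃ P : Subgroup G, P = Subgroup.zpowers x := ⟨_, rfl⟩
  have hPcard : Nat.card ↥P = 17 := by rw [hP, Nat.card_zpowers, hord]
  have hPcyc : IsCyclic ↥P := by
    subst hP
    infer_instance
  obtain ⟨C, hC⟩ : ∃ C : Subgroup G, C = Subgroup.centralizer ({x} : Set G) := ⟨_, rfl⟩
  have hCP : Subgroup.centralizer (P : Set G) = C := by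
    rw [hP, hC, Subgroup.zpowers_eq_closure, Subgroup.centralizer_closure]
  have hxC : x ∈ C := by
    rw [hC]
    exact Subgroup.mem_centralizer_iff.mpr fun h hh => by rw [Set.mem_singleton_iff.mp hh]
  have hPC : P ≤ C := by
    rw [hP, Subgroup.zpowers_le]
    exact hxC
  have hCN : C ≤ Subgroup.normalizer (P : Set G) := by
    rw [← hCP]
    exact Subgroup.centralizer_le_normalizer (P : Set G)
  -- `z` normalizes `P`
  have hc : ∀ j : ℕ, z * x ^ j * z⁻¹ = x ^ (2 * j) := by
    intro j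
    rw [← conj_pow, hzx, ← pow_mul]
  have h9 : z⁻¹ * x * z⁻¹⁻¹ = x ^ 9 := by
    have h1 : z * x ^ 9 * z⁻¹ = x := by
      rw [hc 9]
      calc x ^ (2 * 9) = x ^ 17 * x := by rw [← pow_succ]
        _ = x := by rw [hx17, one_mul]
    calc z⁻¹ * x * z⁻¹⁻¹ = z⁻¹ * (z * x ^ 9 * z⁻¹) * z⁻¹⁻¹ := by rw [h1]
      _ = x ^ 9 := by group
  have hzN : z ∈ Subgroup.normalizer (P : Set G) := by
    have k1 : ∀ y ∈ P, z * y * z⁻¹ ∈ P := by
      rw [hP]
      apply conj_mem_zpowers
      rw [hzx]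
      exact pow_mem (Subgroup.mem_zpowers x) 2
    have k2 : ∀ y ∈ P, z⁻¹ * y * z⁻¹⁻¹ ∈ P := by
      rw [hP]
      apply conj_mem_zpowers
      rw [h9]
      exact pow_mem (Subgroup.mem_zpowers x) 9
    rw [Subgroup.mem_normalizer_iff]
    intro y
    constructor
    · exact k1 y
    · intro hy
      have := k2 _ hy
      have e : z⁻¹ * (z * y * z⁻¹) * z⁻¹⁻¹ = y := by group
      rwa [e] at this
  -- the action on `P`
  have hfact : Fact (Nat.card ↥P).Prime := ⟨by rw [hPcard]; norm_num⟩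
  have hne : NeZero (Nat.card ↥P) := ⟨by rw [hPcard]; norm_num⟩
  have hAutCyc : IsCyclic (MulAut ↥P) := (IsCyclic.mulAutMulEquiv ↥P).isCyclic.mpr inferInstance
  have hAutCard : Nat.card (MulAut ↥P) = 16 := by
    rw [IsCyclic.card_mulAut, hPcard, Nat.totient_prime (by norm_num : Nat.Prime 17)]
  obtain ⟨φ, hφ⟩ : ∃ φ : ↥(Subgroup.normalizer (P : Set G)) →* MulAut ↥P,
      φ = P.normalizerMonoidHom := ⟨_, rfl⟩
  have hker : φ.ker = C.subgroupOf (Subgroup.normalizer (P : Set G)) := by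
    rw [hφ, Subgroup.normalizerMonoidHom_ker, hCP]
  have hkercard : Nat.card ↥φ.ker = Nat.card ↥C := by
    rw [hker]
    exact Nat.card_congr (Subgroup.subgroupOfEquivOfLe hCN).toEquiv
  have hNcard : Nat.card ↥C * Nat.card ↥φ.range =
      Nat.card ↥(Subgroup.normalizer (P : Set G)) := by
    have := Subgroup.card_mul_index φ.ker
    rwa [Subgroup.index_ker, hkercard] at this
  have hd16 : Nat.card ↥φ.range ∣ 16 := by
    have := Subgroup.card_subgroup_dvd_card φ.range
    rwa [hAutCard] at this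
  -- the class of `z`
  obtain ⟨zN, hzNdef⟩ : ∃ zN : ↥(Subgroup.normalizer (P : Set G)), (zN : G) = z :=
    ⟨⟨z, hzN⟩, rfl⟩
  have hzN8 : zN ^ 8 = 1 := by
    apply Subtype.ext
    rw [Subgroup.coe_pow, hzNdef, hz8]
    rfl
  have hz4x : z ^ 4 * x * (z ^ 4)⁻¹ = x ^ 16 := by
    have e4 : z ^ 4 = z * z * z * z := by rw [pow_succ, pow_succ, pow_succ, pow_one]
    have e : z ^ 4 * x * (z ^ 4)⁻¹ = z * (z * (z * (z * x ^ 1 * z⁻¹) * z⁻¹) * z⁻¹) * z⁻¹ := by
      rw [e4]
      simp only [mul_inv_rev, pow_one, mul_assoc]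
    rw [e, hc 1, hc, hc, hc]
  have hφz4 : ¬ (φ zN) ^ 2 ^ 2 = 1 := by
    intro h
    have h1 : zN ^ 4 ∈ φ.ker := by
      rw [MonoidHom.mem_ker, map_pow]
      exact h
    rw [hker, Subgroup.mem_subgroupOf, Subgroup.coe_pow, hzNdef, hC,
      Subgroup.mem_centralizer_iff] at h1
    have h2 : x * z ^ 4 = z ^ 4 * x := h1 x rfl
    have h3 : x ^ 16 = x := by
      rw [← hz4x, ← h2]
      group
    have h4 : x ^ 15 = 1 := by
      have : x ^ 15 * x = 1 * x := by rw [← pow_succ, one_mul]; exact h3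
      exact mul_right_cancel this
    have h5 := orderOf_dvd_of_pow_eq_one h4
    rw [hord] at h5
    omega
  have hφz8 : (φ zN) ^ 2 ^ (2 + 1) = 1 := by
    rw [← map_pow]
    have : zN ^ 2 ^ (2 + 1) = 1 := hzN8
    rw [this, map_one]
  have hφord : orderOf (φ zN) = 8 := orderOf_eq_prime_pow hφz4 hφz8
  have h8d : 8 ∣ Nat.card ↥φ.range := by
    have := Subgroup.orderOf_dvd_natCard φ.range (MonoidHom.mem_range.mpr ⟨zN, rfl⟩)
    rwa [hφord] at this
  -- a Sylow 2-subgroup of the normalizer containing `z`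
  have hzpow : IsPGroup 2 ↥(Subgroup.zpowers zN) := by
    rintro ⟨g, hg⟩
    refine ⟨3, ?_⟩
    obtain ⟨j, rfl⟩ := Subgroup.mem_zpowers_iff.mp hg
    apply Subtype.ext
    rw [Subgroup.coe_pow]
    show (zN ^ j) ^ 2 ^ 3 = 1
    rw [← zpow_natCast, ← zpow_mul, mul_comm, zpow_mul, zpow_natCast]
    have : zN ^ 2 ^ 3 = 1 := hzN8
    rw [this, one_zpow]
  obtain ⟨S, hS⟩ := IsPGroup.exists_le_sylow hzpow
  have hzS : zN ∈ (S : Subgroup ↥(Subgroup.normalizer (P : Set G))) :=
    hS (Subgroup.mem_zpowers zN)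
  have hSinj : ∀ s ∈ (S : Subgroup ↥(Subgroup.normalizer (P : Set G))), φ s = 1 → s = 1 := by
    intro s hs hφs
    have h1 : s ∈ φ.ker := hφs
    have h2 : orderOf s ∣ Nat.card ↥C := by
      have := Subgroup.orderOf_dvd_natCard φ.ker h1
      rwa [hkercard] at this
    obtain ⟨k, hk⟩ := S.isPGroup' ⟨s, hs⟩
    have h3 : s ^ 2 ^ k = 1 := by
      have := congrArg Subtype.val hk
      simpa using this
    have h4 : orderOf s ∣ 2 ^ k := orderOf_dvd_of_pow_eq_one h3
    have hcop : Nat.Coprime (2 ^ k) (Nat.card ↥C) :=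
      Nat.Coprime.pow_left k (Nat.coprime_two_left.mpr (hC ▸ hodd))
    have h5 : orderOf s = 1 := Nat.Coprime.eq_one_of_dvd (hcop.coprime_dvd_left h4) h2
    exact orderOf_eq_one_iff.mp h5
  obtain ⟨ψ, hψ⟩ : ∃ ψ : ↥(S : Subgroup ↥(Subgroup.normalizer (P : Set G))) →* MulAut ↥P,
      ψ = φ.comp (S : Subgroup ↥(Subgroup.normalizer (P : Set G))).subtype := ⟨_, rfl⟩
  have hψinj : Function.Injective ψ := by
    rw [injective_iff_map_eq_one]
    intro s hs
    rw [hψ] at hs
    have := hSinj s.1 s.2 hs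
    exact Subtype.ext this
  have hScyc : IsCyclic ↥(S : Subgroup ↥(Subgroup.normalizer (P : Set G))) :=
    isCyclic_of_injective ψ hψinj
  obtain ⟨g, hg⟩ := IsCyclic.exists_generator
    (α := ↥(S : Subgroup ↥(Subgroup.normalizer (P : Set G))))
  have hgcard : orderOf g = Nat.card ↥(S : Subgroup ↥(Subgroup.normalizer (P : Set G))) :=
    orderOf_eq_card_of_forall_mem_zpowers hg
  have hS8 : Nat.card ↥(S : Subgroup ↥(Subgroup.normalizer (P : Set G))) ∣ 8 := by
    rw [← hgcard]
    apply orderOf_dvd_of_pow_eq_one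
    obtain ⟨j, hj⟩ := Subgroup.mem_zpowers_iff.mp (hg ⟨zN, hzS⟩)
    have hcomm : g * ⟨zN, hzS⟩ = ⟨zN, hzS⟩ * g := by
      rw [← hj]
      exact ((Commute.refl g).zpow_right j).eq
    have hcommG : ((g : ↥(Subgroup.normalizer (P : Set G))) : G) * z =
        z * ((g : ↥(Subgroup.normalizer (P : Set G))) : G) := by
      have := congrArg (fun s : ↥(S : Subgroup ↥(Subgroup.normalizer (P : Set G))) =>
        ((s : ↥(Subgroup.normalizer (P : Set G))) : G)) hcomm
      simpa [hzNdef] using this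
    have h8 := hCz _ hcommG
    apply Subtype.ext
    apply Subtype.ext
    simpa using h8
  have h2idx : ¬ 2 ∣ (S : Subgroup ↥(Subgroup.normalizer (P : Set G))).index := S.not_dvd_index
  have hSidx := Subgroup.card_mul_index (S : Subgroup ↥(Subgroup.normalizer (P : Set G)))
  -- `d = 8`
  have hd8 : Nat.card ↥φ.range = 8 := by
    obtain ⟨k, hk⟩ := h8d
    obtain ⟨t, ht⟩ := hS8
    have hk2 : k ∣ 2 := by
      have : 8 * k ∣ 8 * 2 := by rw [← hk]; exact hd16
      exact (Nat.mul_dvd_mul_iff_left (by norm_num : 0 < 8)).mp this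
    have hkle : k ≤ 2 := Nat.le_of_dvd (by norm_num) hk2
    have hk0 : k ≠ 0 := by
      rintro rfl
      simp at hk2
    have hk1 : 1 ≤ k := Nat.pos_of_ne_zero hk0
    interval_cases k
    · omega
    · exfalso
      apply h2idx
      rw [hk] at hNcard
      rw [← hNcard] at hSidx
      have e : 8 * (S : Subgroup ↥(Subgroup.normalizer (P : Set G))).index =
          8 * (2 * (t * Nat.card ↥C)) := by
        calc 8 * (S : Subgroup ↥(Subgroup.normalizer (P : Set G))).index
            = t * (Nat.card ↥(S : Subgroup ↥(Subgroup.normalizer (P : Set G))) *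
                (S : Subgroup ↥(Subgroup.normalizer (P : Set G))).index) := by
              rw [ht]; ring
          _ = 8 * (2 * (t * Nat.card ↥C)) := by rw [hSidx]; ring
      have e2 := Nat.eq_of_mul_eq_mul_left (by norm_num : 0 < 8) e
      exact ⟨_, e2⟩
  -- Sylow 17
  have hm0 : m ≠ 0 := by
    rintro rfl
    simp at hm
  have h17m : ¬ 17 ∣ m := by
    intro h
    have := Nat.mod_eq_zero_of_dvd h
    omega
  have hfac : (Nat.card G).factorization 17 = 1 := by
    rw [hG, Nat.factorization_mul (by norm_num) hm0, Finsupp.add_apply,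
      Nat.Prime.factorization_self (by norm_num),
      Nat.factorization_eq_zero_of_not_dvd h17m]
  have hPsyl : Nat.card ↥P = 17 ^ (Nat.card G).factorization 17 := by
    rw [hPcard, hfac, pow_one]
  have hn : Nat.card (Sylow 17 G) = (Subgroup.normalizer (P : Set G)).index := by
    have := Sylow.card_eq_index_normalizer (Sylow.ofCard P hPsyl)
    exact this
  have hmod : (Subgroup.normalizer (P : Set G)).index % 17 = 1 := by
    have := card_sylow_modEq_one 17 G
    rw [hn] at this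
    exact this
  have hNG := Subgroup.card_mul_index (Subgroup.normalizer (P : Set G))
  -- `|C| = 17 c`
  obtain ⟨c, hc17⟩ : 17 ∣ Nat.card ↥C := by
    have := Subgroup.card_dvd_of_le hPC
    rwa [hPcard] at this
  have hCodd : Odd (Nat.card ↥C) := hC ▸ hodd
  have hcodd : Odd c := by
    rw [hc17] at hCodd
    exact (Nat.odd_mul.mp hCodd).2
  have hc225 : c ∣ 225 := by
    have h1 : 17 * c ∣ 17 * 115200 := by
      rw [← hc17, hC]
      exact hdvd
    have h2 : c ∣ 512 * 225 := (Nat.mul_dvd_mul_iff_left (by norm_num : 0 < 17)).mp h1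
    have hcop : Nat.Coprime c 512 := by
      have : Nat.Coprime c (2 ^ 9) := Nat.Coprime.pow_right 9 (Nat.coprime_two_right.mpr hcodd)
      exact this
    exact hcop.dvd_of_dvd_mul_left h2
  have hc1 : c = 1 := by
    apply arith225 c (Nat.mem_divisors.mpr ⟨hc225, by norm_num⟩)
    have e : 17 * m = 17 * (c * 8 * (Subgroup.normalizer (P : Set G)).index) := by
      rw [← hG, ← hNG, ← hNcard, hd8, hc17]
      ring
    have e2 : m = c * 8 * (Subgroup.normalizer (P : Set G)).index :=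
      Nat.eq_of_mul_eq_mul_left (by norm_num : 0 < 17) e
    have e3 : (c * 8 * (Subgroup.normalizer (P : Set G)).index) % 17 = 8 := by
      rw [← e2]
      exact hm
    rw [Nat.mul_mod, hmod, Nat.mul_one, Nat.mod_mod] at e3
    exact e3
  have hCeq : P = C := by
    apply Subgroup.eq_of_le_of_card_ge hPC
    rw [hPcard, hc17, hc1]
  intro g hgx
  have hgC : g ∈ C := by
    rw [hC]
    exact Subgroup.mem_centralizer_iff.mpr fun h hh => by
      rw [Set.mem_singleton_iff.mp hh]
      exact hgx.symm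
  rw [← hCeq, hP] at hgC
  obtain ⟨i, hi⟩ := (Submonoid.mem_powers_iff _ _).mp (mem_powers_iff_mem_zpowers.mpr hgC)
  exact ⟨i, hi.symm⟩

example : StNCXB.{u} := ncxb

end Cfsg.Agent.Lib.Helper30.Ho
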