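import Mathlib
import Cfsg.Agent.H64.JzDefs
import Cfsg.Agent.Helper55.J48

/-!
# JZ-MAXS (helper64's project JZ for S2951 / S2952)

A nonempty straddling family of `M` has a lexicographically maximal member inside a given
Sylow 2-subgroup `S ≤ M` of `G`: take a lexicographic maximum `T₀` and conjugate it into `S`
by an element of `M`.
-/

set_option autoImplicit false

universe u

namespace Cfsg.Agent.Lib.Helper30.Jz

open Cfsg Cfsg.Agent.H64.Jz

/-- A lexicographic maximum of three `ℕ`-valued functions on a finite nonempty set. -/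
theorem exists_lexmax {α : Type u} [Finite α] (F : Set α) (hF : F.Nonempty) (a j c : α → ℕ) :
    ∃ T₀ ∈ F, ∀ T ∈ F, a T ≤ a T₀ ∧ (a T = a T₀ → j T ≤ j T₀ ∧ (j T = j T₀ → c T ≤ c T₀)) := by
  obtain ⟨T₁, hT₁, h1⟩ := Set.exists_max_image F a (Set.toFinite F) hF
  obtain ⟨T₂, hT₂, h2⟩ := Set.exists_max_image {T | T ∈ F ∧ a T = a T₁} j (Set.toFinite _)
    ⟨T₁, hT₁, rfl⟩
  obtain ⟨T₃, hT₃, h3⟩ := Set.exists_max_image {T | T ∈ F ∧ a T = a T₁ ∧ j T = j T₂} c
    (Set.toFinite _) ⟨T₂, hT₂.1, hT₂.2, rfl⟩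
  have ha3 : a T₃ = a T₁ := hT₃.2.1
  have hj3 : j T₃ = j T₂ := hT₃.2.2
  refine ⟨T₃, hT₃.1, ?_⟩
  intro T hT
  refine ⟨?_, fun hEq => ⟨?_, fun hEq2 => ?_⟩⟩
  · rw [ha3]
    exact h1 T hT
  · rw [hj3]
    exact h2 T ⟨hT, hEq.trans ha3⟩
  · exact h3 T ⟨hT, hEq.trans ha3, hEq2.trans hj3⟩

theorem map_symm_map_aut {G : Type u} [Group G] (c : MulAut G) (T : Subgroup G) :
    (T.map c.toMonoidHom).map c.symm.toMonoidHom = T := by
  rw [Subgroup.map_map]
  have h : c.symm.toMonoidHom.comp c.toMonoidHom = MonoidHom.id G := by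
    ext x
    simp
  rw [h, Subgroup.map_id]

theorem card_map_aut {G : Type u} [Group G] (c : MulAut G) (T : Subgroup G) :
    Nat.card ↥(T.map c.toMonoidHom) = Nat.card ↥T :=
  Subgroup.card_map_of_injective c.injective

theorem maxElemAbelianOrder_le_map {G : Type u} [Group G] [Finite G] (c : MulAut G)
    (T : Subgroup G) : maxElemAbelianOrder T ≤ maxElemAbelianOrder (T.map c.toMonoidHom) := by
  obtain ⟨A, hAT, hA, hAc⟩ := Cfsg.Agent.Helper55.ThJ.gens_nonempty T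
  have h1 := Cfsg.Agent.Helper55.ThJ.card_le_a (T.map c.toMonoidHom) (Subgroup.map_mono hAT)
    (Cfsg.Agent.H14.elemAb_map' hA c.toMonoidHom)
  rw [card_map_aut, hAc] at h1
  exact h1

theorem maxElemAbelianOrder_map {G : Type u} [Group G] [Finite G] (c : MulAut G)
    (T : Subgroup G) : maxElemAbelianOrder (T.map c.toMonoidHom) = maxElemAbelianOrder T := by
  apply le_antisymm
  · have := maxElemAbelianOrder_le_map c.symm (T.map c.toMonoidHom)
    rwa [map_symm_map_aut] at this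
  · exact maxElemAbelianOrder_le_map c T

theorem maxS : StMaxS.{u} := by
  intro G _ _ S M hSM hne
  obtain ⟨T₀, hT₀F, hmax⟩ := exists_lexmax (straddlingTwoSubgroups M) hne maxElemAbelianOrder
    (fun T => Nat.card ↥(thompsonSubgroupOf 2 T)) (fun T => Nat.card ↥T)
  obtain ⟨hT₀2, hT₀ne, hT₀M, L₀, hL₀, hT₀L₀, hL₀M⟩ := hT₀F
  obtain ⟨m, hmM, hTm⟩ := Cfsg.Agent.Helper55.J48.exists_sylow_conj S M hSM T₀ hT₀2 hT₀M
  have hS2 : ((m • S : Sylow 2 G) : Subgroup G) =
      (S : Subgroup G).map (MulAut.conj m).toMonoidHom := by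
    rw [Sylow.coe_subgroup_smul]
    rfl
  obtain ⟨c, hc⟩ : ∃ c : MulAut G, c = MulAut.conj m⁻¹ := ⟨_, rfl⟩
  have hcx : ∀ x : G, c.toMonoidHom x = m⁻¹ * x * m := by
    intro x
    rw [hc]
    show m⁻¹ * x * m⁻¹⁻¹ = m⁻¹ * x * m
    rw [inv_inv]
  have hJ : thompsonSubgroupOf 2 (T₀.map c.toMonoidHom) =
      (thompsonSubgroupOf 2 T₀).map c.toMonoidHom := by
    rw [hc]
    exact (Cfsg.Agent.H14.thompsonSubgroupOf_conj 2 m⁻¹ T₀).symm
  have hJc : Nat.card ↥(thompsonSubgroupOf 2 (T₀.map c.toMonoidHom)) =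
      Nat.card ↥(thompsonSubgroupOf 2 T₀) := by
    rw [hJ, card_map_aut]
  have hac : maxElemAbelianOrder (T₀.map c.toMonoidHom) = maxElemAbelianOrder T₀ :=
    maxElemAbelianOrder_map c T₀
  have hTc : Nat.card ↥(T₀.map c.toMonoidHom) = Nat.card ↥T₀ := card_map_aut c T₀
  refine ⟨T₀.map c.toMonoidHom, ⟨⟨?_, ?_, ?_, L₀.map c.toMonoidHom, ?_, Subgroup.map_mono hT₀L₀, ?_⟩,
    ?_⟩, ?_⟩
  · -- 2-group
    rintro ⟨y, hy⟩
    obtain ⟨x, hx, rfl⟩ := Subgroup.mem_map.mp hy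
    obtain ⟨k, hk⟩ := hT₀2 ⟨x, hx⟩
    refine ⟨k, ?_⟩
    apply Subtype.ext
    have hk' : x ^ 2 ^ k = 1 := by
      have := congrArg Subtype.val hk
      simpa using this
    show (c.toMonoidHom x) ^ 2 ^ k = 1
    rw [← map_pow, hk', map_one]
  · -- nontrivial
    intro h
    apply hT₀ne
    rw [eq_bot_iff]
    intro x hx
    have h1 : c.toMonoidHom x ∈ T₀.map c.toMonoidHom := Subgroup.mem_map_of_mem _ hx
    rw [h, Subgroup.mem_bot, hcx] at h1
    rw [Subgroup.mem_bot]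
    have e : x = m * (m⁻¹ * x * m) * m⁻¹ := by group
    rw [e, h1]
    group
  · -- inside `M`
    rintro _ ⟨x, hx, rfl⟩
    rw [hcx]
    exact M.mul_mem (M.mul_mem (M.inv_mem hmM) (hT₀M hx)) hmM
  · -- 2-local
    obtain ⟨U, hU2, hUne, rfl⟩ := hL₀
    refine ⟨U.map c.toMonoidHom, ?_, ?_, Subgroup.map_equiv_normalizer_eq U c⟩
    · rintro ⟨y, hy⟩
      obtain ⟨x, hx, rfl⟩ := Subgroup.mem_map.mp hy
      obtain ⟨k, hk⟩ := hU2 ⟨x, hx⟩
      refine ⟨k, ?_⟩
      apply Subtype.ext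
      have hk' : x ^ 2 ^ k = 1 := by
        have := congrArg Subtype.val hk
        simpa using this
      show (c.toMonoidHom x) ^ 2 ^ k = 1
      rw [← map_pow, hk', map_one]
    · intro h
      apply hUne
      rw [eq_bot_iff]
      intro x hx
      have h1 : c.toMonoidHom x ∈ U.map c.toMonoidHom := Subgroup.mem_map_of_mem _ hx
      rw [h, Subgroup.mem_bot, hcx] at h1
      rw [Subgroup.mem_bot]
      have e : x = m * (m⁻¹ * x * m) * m⁻¹ := by group
      rw [e, h1]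
      group
  · -- not inside `M`
    intro h
    apply hL₀M
    intro x hx
    have h1 : c.toMonoidHom x ∈ M := h (Subgroup.mem_map_of_mem _ hx)
    rw [hcx] at h1
    have e : x = m * (m⁻¹ * x * m) * m⁻¹ := by group
    rw [e]
    exact M.mul_mem (M.mul_mem hmM h1) (M.inv_mem hmM)
  · -- maximality
    intro T hT
    have h := hmax T hT
    rw [hac, hJc, hTc]
    exact h
  · -- inside `S`
    rintro _ ⟨x, hx, rfl⟩
    have h1 := hTm hx
    rw [hS2] at h1
    obtain ⟨s, hs, rfl⟩ := Subgroup.mem_map.mp h1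
    rw [hcx]
    have e : m⁻¹ * ((MulAut.conj m).toMonoidHom s) * m = s := by
      show m⁻¹ * (m * s * m⁻¹) * m = s
      group
    rw [e]
    exact hs

example : StMaxS.{u} := maxS

end Cfsg.Agent.Lib.Helper30.Jz
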