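import Cfsg.Agent.Lib.Helper96.LSDefs
import Cfsg.Agent.Lib.Helper96.LSWord

/-!
# Conjugation induction in the Leary–Stancu model (piece S5286-CI)
-/

namespace Cfsg.Agent.Lib.Helper30.LS

open Cfsg.Agent.Lib.Helper96.LS

universe u

variable {Q : Type u} [Group Q] {I : Type u}

/-- If `γ` conjugates `inr a` to `inr b` then `b` fixes the free part of `γ`. -/
theorem conj_inr_eq (D : Dat Q I) (γ : D.Lam) (a b : Q)
    (h : γ * SemidirectProduct.inr a * γ⁻¹ = SemidirectProduct.inr b) :
    D.act b γ.left = γ.left ∧ b = γ.right * a * γ.right⁻¹ := by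
  have h' : γ * SemidirectProduct.inr a = SemidirectProduct.inr b * γ := by
    rw [← h]; group
  have hl := congrArg SemidirectProduct.left h'
  have hr := congrArg SemidirectProduct.right h'
  simp only [SemidirectProduct.mul_left, SemidirectProduct.mul_right, SemidirectProduct.left_inr,
    SemidirectProduct.right_inr, map_one, mul_one, one_mul] at hl hr
  exact ⟨hl.symm, eq_mul_inv_of_mul_eq hr.symm⟩

/-- An element fixing a word fixes its last letter. -/
theorem smul_last (D : Dat Q I) (b : Q) (w : FreeGroup D.X) (hw : D.act b w = w)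
    (L : List (D.X × Bool)) (y : D.X × Bool) (hL : w.toWord = L ++ [y]) : b • y.1 = y.1 := by
  have h' : (D.act b w).toWord = w.toWord.map (fun y => (b • y.1, y.2)) :=
    toWord_freeGroupCongr (MulAction.toPerm b) w
  rw [hw, hL, List.map_append, List.map_singleton] at h'
  have h2 := (List.append_inj' h' rfl).2
  have h3 : y = (b • y.1, y.2) := by simpa using h2
  exact (congrArg Prod.fst h3).symm

/-- The inductive step, uniformly for `t i` and its inverse. -/
theorem conj_step (D : Dat Q I) (M : Q → Set Q → Prop)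
    (h1 : ∀ s ∈ D.S₀, ∀ P : Set Q, P ⊆ D.S₀ → M s P)
    (h4 : ∀ (q₁ q₂ : Q) (P : Set Q), P ⊆ D.S₀ → (∀ a ∈ P, q₁ * a * q₁⁻¹ ∈ D.S₀) → M q₁ P →
      M q₂ ((fun a => q₁ * a * q₁⁻¹) '' P) → M (q₂ * q₁) P)
    (g g' τ : D.Lam) (ρ s : Q) (C : Subgroup Q) (hs : s ∈ D.S₀)
    (hτ : ∀ c ∈ C, τ * SemidirectProduct.inr c * τ⁻¹ = SemidirectProduct.inr (ρ * c * ρ⁻¹))
    (hρ : ∀ c ∈ C, ρ * c * ρ⁻¹ ∈ D.S₀)
    (hMρ : ∀ P' : Set Q, P' ⊆ C → M ρ P')
    (hg : g = g' * τ * SemidirectProduct.inr s) (hτr : τ.right = ρ)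
    (IH : ∀ P' : Set Q, P' ⊆ D.S₀ →
      (∀ a ∈ P', ∃ b ∈ D.S₀, g' * SemidirectProduct.inr a * g'⁻¹ = SemidirectProduct.inr b) →
      M g'.right P')
    (P : Set Q) (hP : P ⊆ D.S₀)
    (hc : ∀ a ∈ P, ∃ b ∈ D.S₀, g * SemidirectProduct.inr a * g⁻¹ = SemidirectProduct.inr b)
    (hC : ∀ a ∈ P, s * a * s⁻¹ ∈ C) :
    M g.right P := by
  have hsP : ∀ a ∈ P, s * a * s⁻¹ ∈ D.S₀ := fun a ha =>
    D.S₀.mul_mem (D.S₀.mul_mem hs (hP ha)) (D.S₀.inv_mem hs)
  have m1 : M s P := h1 s hs P hP
  have m2 : M ρ ((fun a => s * a * s⁻¹) '' P) :=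
    hMρ _ (by rintro _ ⟨a, ha, rfl⟩; exact hC a ha)
  have m3 : M (ρ * s) P := h4 s ρ P hP hsP m1 m2
  have e1 : ∀ a, (ρ * s) * a * (ρ * s)⁻¹ = ρ * (s * a * s⁻¹) * ρ⁻¹ := by intro a; group
  have hρs : ∀ a ∈ P, (ρ * s) * a * (ρ * s)⁻¹ ∈ D.S₀ := fun a ha => by
    rw [e1]; exact hρ _ (hC a ha)
  have m4 : M g'.right ((fun a => (ρ * s) * a * (ρ * s)⁻¹) '' P) := by
    apply IH
    · rintro _ ⟨a, ha, rfl⟩; exact hρs a ha
    · rintro _ ⟨a, ha, rfl⟩
      obtain ⟨b, hb, hbe⟩ := hc a ha
      refine ⟨b, hb, ?_⟩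
      show g' * SemidirectProduct.inr ((ρ * s) * a * (ρ * s)⁻¹) * g'⁻¹ = SemidirectProduct.inr b
      rw [← hbe, hg, e1, ← hτ _ (hC a ha)]
      simp only [map_mul, map_inv]
      group
  have m5 := h4 (ρ * s) g'.right P hP hρs m3 m4
  have hr : g.right = g'.right * (ρ * s) := by
    rw [hg, SemidirectProduct.mul_right, SemidirectProduct.mul_right, SemidirectProduct.right_inr,
      hτr, mul_assoc]
  rw [hr]; exact m5

/-- **S5286-CI**: conjugation induction along the normal form. -/
theorem conj_induction (D : Dat Q I)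
    (hNF : ∀ g ∈ D.G, (∃ s ∈ D.S₀, g = SemidirectProduct.inr s) ∨
      ∃ g' ∈ D.G, ∃ (i : I) (e : Bool) (s : Q), s ∈ D.S₀ ∧
        g = g' * D.tt i e * SemidirectProduct.inr s ∧
        g.left.toWord = g'.left.toWord ++ [D.letter g' i e])
    (M : Q → Set Q → Prop)
    (h1 : ∀ s ∈ D.S₀, ∀ P : Set Q, P ⊆ D.S₀ → M s P)
    (h2 : ∀ i, ∀ P : Set Q, P ⊆ D.A i → M (D.σ i) P)
    (h3 : ∀ i, ∀ P : Set Q, P ⊆ D.B i → M (D.σ i)⁻¹ P)
    (h4 : ∀ (q₁ q₂ : Q) (P : Set Q), P ⊆ D.S₀ → (∀ a ∈ P, q₁ * a * q₁⁻¹ ∈ D.S₀) → M q₁ P →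
      M q₂ ((fun a => q₁ * a * q₁⁻¹) '' P) → M (q₂ * q₁) P)
    (g : D.Lam) (hg : g ∈ D.G) (P : Set Q) (hP : P ⊆ D.S₀)
    (hc : ∀ a ∈ P, ∃ b ∈ D.S₀, g * SemidirectProduct.inr a * g⁻¹ = SemidirectProduct.inr b) :
    M g.right P := by
  have main : ∀ (n : ℕ) (g : D.Lam), g ∈ D.G → g.left.toWord.length = n → ∀ P : Set Q,
      P ⊆ D.S₀ →
      (∀ a ∈ P, ∃ b ∈ D.S₀, g * SemidirectProduct.inr a * g⁻¹ = SemidirectProduct.inr b) →
      M g.right P := by
    intro n
    induction n using Nat.strong_induction_on with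
    | _ n ih =>
      intro g hg hn P hP hc
      rcases hNF g hg with ⟨s, hs, rfl⟩ | ⟨g', hg', i, e, s, hs, hge, hw⟩
      · rw [SemidirectProduct.right_inr]; exact h1 s hs P hP
      · have hlen : g'.left.toWord.length < n := by
          rw [← hn, hw, List.length_append]; simp
        have IH : ∀ P' : Set Q, P' ⊆ D.S₀ →
            (∀ a ∈ P', ∃ b ∈ D.S₀,
              g' * SemidirectProduct.inr a * g'⁻¹ = SemidirectProduct.inr b) →
            M g'.right P' := fun P' hP' hc' => ih _ hlen g' hg' rfl P' hP' hc'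
        have hfix : ∀ a ∈ P,
            (g.right * a * g.right⁻¹) • (D.letter g' i e).1 = (D.letter g' i e).1 := by
          intro a ha
          obtain ⟨b, hb, hbe⟩ := hc a ha
          obtain ⟨hb1, hb2⟩ := conj_inr_eq D g a b hbe
          rw [← hb2]
          exact smul_last D b g.left hb1 _ _ hw
        cases e with
        | true =>
          have hτr : (D.tt i true).right = D.σ i := by simp [Dat.tt, Dat.t]
          have hgr : g.right = g'.right * D.σ i * s := by
            rw [hge, SemidirectProduct.mul_right, SemidirectProduct.mul_right,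
              SemidirectProduct.right_inr, hτr]
          refine conj_step D M h1 h4 g g' (D.tt i true) (D.σ i) s (D.A i) hs ?_ (D.hB i) (h2 i)
            hge hτr IH P hP hc ?_
          · intro c hc
            simpa [Dat.tt] using D.t_conj i hc
          · intro a ha
            have h := hfix a ha
            simp only [Dat.letter, if_true] at h
            rw [← mul_smul] at h
            have h' := (D.smul_x_eq_iff.1 h).2
            rw [← D.conj_mem_B]
            convert h' using 1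
            rw [hgr]; group
        | false =>
          have hτr : (D.tt i false).right = (D.σ i)⁻¹ := by simp [Dat.tt, Dat.t]
          have hgr : g.right = g'.right * (D.σ i)⁻¹ * s := by
            rw [hge, SemidirectProduct.mul_right, SemidirectProduct.mul_right,
              SemidirectProduct.right_inr, hτr]
          refine conj_step D M h1 h4 g g' (D.tt i false) (D.σ i)⁻¹ s (D.B i) hs ?_ ?_ (h3 i)
            hge hτr IH P hP hc ?_
          · intro c hc
            simpa [Dat.tt] using D.t_inv_conj i hc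
          · intro c hc
            rw [inv_inv]
            exact D.hA i (D.mem_B.1 hc)
          · intro a ha
            have h := hfix a ha
            simp only [Dat.letter, Bool.false_eq_true, if_false] at h
            rw [← mul_smul] at h
            have h' := (D.smul_x_eq_iff.1 h).2
            convert h' using 1
            rw [hgr]; group
  exact main _ g hg rfl P hP hc

end Cfsg.Agent.Lib.Helper30.LS
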