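import Cfsg.Agent.Lib.Helper96.LSDefs
import Cfsg.Agent.Lib.Helper96.LSWord

/-!
# Finite subgroups of the Leary–Stancu model are conjugate into the base (piece S5286-FS)

The centre of a bounded orbit in the Cayley tree of the free group on the letters.
-/

namespace Cfsg.Agent.Lib.Helper30.LS

open Cfsg.Agent.Lib.Helper96.LS

universe u

variable {Q : Type u} [Group Q] {I : Type u}

/-- The permutation action keeps the length. -/
theorem norm_act (D : Dat Q I) (q : Q) (w : FreeGroup D.X) : (D.act q w).norm = w.norm :=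
  norm_freeGroupCongr (MulAction.toPerm q) w

/-- The length of the free part of a product, as a distance in the tree. -/
theorem norm_mul_left (D : Dat Q I) (γ δ : D.Lam) :
    ((γ * δ).left).norm = (((γ⁻¹).left)⁻¹ * δ.left).norm := by
  have h : (γ * δ).left = D.act γ.right (((γ⁻¹).left)⁻¹ * δ.left) := by
    simp only [SemidirectProduct.mul_left, SemidirectProduct.inv_left, map_mul, map_inv, inv_inv,
      MulAut.apply_inv_self]
  rw [h, norm_act]

/-- The exponent sum on a free group. -/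
noncomputable def degF (α : Type*) : FreeGroup α →* Multiplicative ℤ :=
  FreeGroup.lift (fun _ => Multiplicative.ofAdd 1)

/-- The exponent sum on the ambient group. -/
noncomputable def deg (D : Dat Q I) : D.Lam →* Multiplicative ℤ :=
  SemidirectProduct.lift (degF D.X) 1 (by
    intro q
    apply FreeGroup.ext_hom
    intro a
    simp [degF, Dat.act_of])

theorem deg_eq (D : Dat Q I) (k : D.Lam) : deg D k = degF D.X k.left := by
  conv_lhs => rw [← SemidirectProduct.inl_left_mul_inr_right k]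
  rw [map_mul]
  unfold deg
  rw [SemidirectProduct.lift_inl, SemidirectProduct.lift_inr]
  simp

theorem degF_letter {α : Type*} [DecidableEq α] (w : FreeGroup α) (y : α × Bool)
    (hw : w.toWord = [y]) :
    degF α w = Multiplicative.ofAdd 1 ∨ degF α w = (Multiplicative.ofAdd 1)⁻¹ := by
  have h : w = FreeGroup.mk [y] := by rw [← hw, FreeGroup.mk_toWord]
  rw [h]
  unfold degF
  rw [FreeGroup.lift_mk]
  rcases y with ⟨a, b⟩
  cases b <;> simp

theorem ofAdd_pow_ne (n : ℕ) (hn : 0 < n) (x : Multiplicative ℤ)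
    (hx : x = Multiplicative.ofAdd 1 ∨ x = (Multiplicative.ofAdd 1)⁻¹) : x ^ n ≠ 1 := by
  intro h
  have h2 := congrArg Multiplicative.toAdd h
  rw [toAdd_pow] at h2
  rcases hx with rfl | rfl
  · simp at h2; omega
  · simp at h2; omega

/-- **S5286-FS**: a finite subgroup of `D.G` is conjugate into the base subgroup. -/
theorem finite_conj (D : Dat Q I)
    (hP1 : ∀ g ∈ D.G, g.left = 1 → ∃ s ∈ D.S₀, g = SemidirectProduct.inr s)
    (hPC : ∀ g ∈ D.G, ∀ (y : D.X × Bool) (L : List (D.X × Bool)), g.left.toWord = y :: L →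
      ∃ g1 ∈ D.G, g1.left.toWord = [y])
    (H : Subgroup D.Lam) (hH : H ≤ D.G) (hfin : (H : Set D.Lam).Finite) :
    ∃ g ∈ D.G, ∀ h ∈ H, ∃ s ∈ D.S₀, g * h * g⁻¹ = SemidirectProduct.inr s := by
  have hex : ∃ r : ℕ, ∃ g ∈ D.G, ∀ h ∈ H, ((h⁻¹ * g).left).norm ≤ r := by
    obtain ⟨r, hr⟩ := (hfin.image (fun h : D.Lam => ((h⁻¹ * 1).left).norm)).bddAbove
    exact ⟨r, 1, D.G.one_mem, fun h hh => hr ⟨h, hh, rfl⟩⟩
  obtain ⟨r₀, ⟨g₀, hg₀, hr₀⟩, hmin⟩ :=
    wellFounded_lt.has_min {r : ℕ | ∃ g ∈ D.G, ∀ h ∈ H, ((h⁻¹ * g).left).norm ≤ r} hex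
  have hclaim : ∀ h ∈ H, (g₀⁻¹ * h * g₀).left = 1 := by
    intro h hh
    by_contra hne
    have hkG : g₀⁻¹ * h * g₀ ∈ D.G :=
      D.G.mul_mem (D.G.mul_mem (D.G.inv_mem hg₀) (hH hh)) hg₀
    have hw : (g₀⁻¹ * h * g₀).left.toWord ≠ [] := by
      intro h0
      exact hne (FreeGroup.toWord_eq_nil_iff.1 h0)
    obtain ⟨y, L, hyL⟩ := List.exists_cons_of_ne_nil hw
    by_cases hL : L = []
    · subst hL
      have : Finite H := hfin.to_subtype
      have hfo := isOfFinOrder_of_finite (⟨h, hh⟩ : H)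
      obtain ⟨n, hn, hpow⟩ := isOfFinOrder_iff_pow_eq_one.1 hfo
      have hpow' : h ^ n = 1 := by
        have := congrArg Subtype.val hpow
        simpa using this
      have hdk : deg D (g₀⁻¹ * h * g₀) = deg D h := by
        rw [map_mul, map_mul, map_inv, mul_comm, ← mul_assoc, mul_inv_cancel, one_mul]
      have h1 : deg D h ^ n = 1 := by rw [← map_pow, hpow', map_one]
      rw [← hdk, deg_eq] at h1
      exact ofAdd_pow_ne n hn _ (degF_letter _ y hyL) h1
    · obtain ⟨g₁, hg₁, hg₁w⟩ := hPC _ hkG y L hyL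
      have key : ∀ h' ∈ H, ((h'⁻¹ * (g₀ * g₁)).left).norm < r₀ := by
        intro h' hh'
        have e1 : ((h'⁻¹ * (g₀ * g₁)).left).norm =
            ((((h'⁻¹ * g₀)⁻¹).left)⁻¹ * g₁.left).norm := by
          rw [← mul_assoc]; exact norm_mul_left D (h'⁻¹ * g₀) g₁
        have e2 : ((((h'⁻¹ * g₀)⁻¹).left)⁻¹).norm ≤ r₀ := by
          have h2 := hr₀ h' hh'
          have e := norm_mul_left D (h'⁻¹ * g₀) 1
          rw [mul_one, SemidirectProduct.one_left, mul_one] at e
          rw [← e]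
          exact h2
        have e3 : ((((h'⁻¹ * g₀)⁻¹).left)⁻¹ * (g₀⁻¹ * h * g₀).left).norm ≤ r₀ := by
          have h3 := hr₀ (h⁻¹ * h') (H.mul_mem (H.inv_mem hh) hh')
          have e : (h⁻¹ * h')⁻¹ * g₀ = (h'⁻¹ * g₀) * (g₀⁻¹ * h * g₀) := by group
          rw [e, norm_mul_left D (h'⁻¹ * g₀) (g₀⁻¹ * h * g₀)] at h3
          exact h3
        have e4 := norm_lt_max (((h'⁻¹ * g₀)⁻¹).left)⁻¹ (g₀⁻¹ * h * g₀).left g₁.left y L hyL hL hg₁w
        rw [e1]
        exact lt_of_lt_of_le e4 (max_le e2 e3)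
      have hpos : 0 < r₀ := lt_of_le_of_lt (Nat.zero_le _) (key 1 H.one_mem)
      exact hmin (r₀ - 1) ⟨g₀ * g₁, D.G.mul_mem hg₀ hg₁, fun h' hh' => by
        have := key h' hh'; omega⟩ (by omega)
  refine ⟨g₀⁻¹, D.G.inv_mem hg₀, fun h hh => ?_⟩
  rw [inv_inv]
  exact hP1 _ (D.G.mul_mem (D.G.mul_mem (D.G.inv_mem hg₀) (hH hh)) hg₀) (hclaim h hh)

end Cfsg.Agent.Lib.Helper30.LS
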