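import Mathlib
import Cfsg.Prelude.Def_Classical
import Cfsg.Agent.Lib.Helper30.Rec54A
import Cfsg.Agent.Lib.Helper30.Rec54B

/-!
# Recognition of `3^{1+2} : 2` as the derived subgroup of `SU₃(2)` (piece S5559-REC)

Assembly of `iso54` (abstract uniqueness) and `exists_su3_gens` (the explicit generators).
-/

set_option autoImplicit false

namespace Cfsg.Agent.Lib.Helper30.Rec54

universe u

/-- **S5559-REC.** A group generated by `d, x, y` with `d² = 1`, `d` inverting `x` and `y`,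
`x³ = y³ = (xy)³ = (x⁻¹y)³ = 1` and `xy ≠ yx` is isomorphic to the derived subgroup of
`SU₃(2)`. -/
theorem rec54 {K : Type u} [Group K] [Finite K] {F : Type} [Field F] [Fintype F]
    (hF : Fintype.card F = 4) (d x y : K) (hd : d * d = 1) (hx : d * x * d = x⁻¹)
    (hy : d * y * d = y⁻¹) (hx3 : x ^ 3 = 1) (hy3 : y ^ 3 = 1) (hxy3 : (x * y) ^ 3 = 1)
    (hxy3' : (x⁻¹ * y) ^ 3 = 1) (hne : x * y ≠ y * x)
    (hgen : Subgroup.closure {d, x, y} = ⊤) :
    Nonempty (K ≃* ↥(commutator ↥(Cfsg.SU 3 F 2))) := by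
  obtain ⟨d0, x0, y0, h1, h2, h3, h4, h5, h6, h7, h8, h9⟩ := exists_su3_gens hF
  exact iso54 d x y hd hx hy hx3 hy3 hxy3 hxy3' hne hgen d0 x0 y0 h1 h2 h3 h4 h5 h6 h7 h8 h9

end Cfsg.Agent.Lib.Helper30.Rec54
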