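import Mathlib
import Cfsg.Agent.H52.SnDefs

/-!
# SN-FINA (helper52's S2942 project)

`O ≤ Q` and `K ⊔ C` is normal in the normal subgroup `R = C ⊔ W`, where `W` is generated by the
elements of odd order of `M`.
-/

set_option autoImplicit false

universe u

namespace Cfsg.Agent.Lib.Helper30.Sn

open Cfsg Cfsg.Agent.H52.Sn

theorem finA : Cfsg.Agent.H52.Sn.StFinA.{u} := by
  intro X _ _ T C Q M J K O hT hTodd hC hQ hM hTCQ hJM hcomm hKgen hKJ hOK hO
  have hKM : K ≤ M := by
    rw [← hKJ]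
    exact (Subgroup.commutator_mono le_rfl hJM).trans (Subgroup.commutator_le_right K M)
  set S : Set X := {x : X | x ∈ M ∧ Odd (orderOf x)} with hS
  set W : Subgroup X := Subgroup.closure S with hW
  have hSconj : ∀ g : X, ∀ x ∈ S, g * x * g⁻¹ ∈ S := by
    intro g x hx
    refine ⟨hM.conj_mem x hx.1 g, ?_⟩
    have h1 : orderOf (g * x * g⁻¹) = orderOf x := by
      have h2 : g * x * g⁻¹ = MulAut.conj g x := by simp
      rw [h2, MulEquiv.orderOf_eq]
    rw [h1]
    exact hx.2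
  have hWn : W.Normal := by
    constructor
    intro n hn g
    induction hn using Subgroup.closure_induction with
    | mem x hx => exact Subgroup.subset_closure (hSconj g x hx)
    | one => simp
    | mul x y _ _ hx hy =>
      have h3 : g * (x * y) * g⁻¹ = (g * x * g⁻¹) * (g * y * g⁻¹) := by group
      rw [h3]
      exact mul_mem hx hy
    | inv x _ hx =>
      have h3 : g * x⁻¹ * g⁻¹ = (g * x * g⁻¹)⁻¹ := by group
      rw [h3]
      exact inv_mem hx
  have hKW : K ≤ W := by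
    rw [← hKgen]
    apply Subgroup.closure_mono
    intro g hg
    exact ⟨hKM hg.1, hg.2⟩
  -- the quotient by `C`
  set π : X →* X ⧸ C := QuotientGroup.mk' C with hπ
  have hπC : ∀ x : X, π x = 1 ↔ x ∈ C := fun x => QuotientGroup.eq_one_iff x
  -- (a) the image of `W` is commutative
  have hWcomm : ∀ w₁ ∈ W, ∀ w₂ ∈ W, Commute (π w₁) (π w₂) := by
    intro w₁ h₁ w₂ h₂
    induction h₁, h₂ using Subgroup.closure_induction₂ with
    | mem x y hx hy =>
      have h4 := (hπC _).mpr (hcomm x hx.1 y hy.1 hx.2 hy.2)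
      rw [map_mul, map_mul, map_mul, map_inv, map_inv] at h4
      rw [mul_inv_eq_one, mul_inv_eq_iff_eq_mul] at h4
      exact h4
    | one_left x hx => rw [map_one]; exact Commute.one_left _
    | one_right x hx => rw [map_one]; exact Commute.one_right _
    | mul_left x y z _ _ _ h₁ h₂ => rw [map_mul]; exact Commute.mul_left h₁ h₂
    | mul_right y z x _ _ _ h₁ h₂ => rw [map_mul]; exact Commute.mul_right h₁ h₂
    | inv_left x y _ _ h => rw [map_inv]; exact Commute.inv_left h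
    | inv_right x y _ _ h => rw [map_inv]; exact Commute.inv_right h
  -- (b) every element of the image of `W` has odd order
  have hWodd : ∀ w ∈ W, Odd (orderOf (π w)) := by
    intro w hw
    induction hw using Subgroup.closure_induction with
    | mem x hx => exact Odd.of_dvd_nat hx.2 (orderOf_map_dvd π x)
    | one => simp
    | mul x y hx hy hx' hy' =>
      rw [map_mul]
      have h6 := (hWcomm x hx y hy).orderOf_mul_dvd_lcm
      have h7 : Odd (orderOf (π x) * orderOf (π y)) := Odd.mul hx' hy'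
      exact Odd.of_dvd_nat h7 (h6.trans (Nat.lcm_dvd_mul _ _))
    | inv x _ hx => rw [map_inv, orderOf_inv]; exact hx
  -- (c) `O ≤ C`
  have hOC : O ≤ C := by
    intro o ho
    rw [← hπC]
    obtain ⟨k, hk⟩ := hO ⟨o, ho⟩
    have hk' : o ^ (2 ^ k) = 1 := by
      have h8 := congrArg Subtype.val hk
      simpa using h8
    have h9 : orderOf (π o) ∣ 2 ^ k := by
      apply orderOf_dvd_of_pow_eq_one
      rw [← map_pow, hk', map_one]
    have h10 : Odd (orderOf (π o)) := hWodd o (hKW (hOK ho))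
    have h11 : orderOf (π o) = 1 :=
      Nat.Coprime.eq_one_of_dvd ((Nat.coprime_two_right.mpr h10).pow_right k) h9
    exact orderOf_eq_one_iff.mp h11
  -- (d) `O ≤ Q`
  have hOQ : O ≤ Q := by
    have : Fact (Nat.Prime 2) := ⟨Nat.prime_two⟩
    have hT2 : ¬ 2 ∣ T.index := by
      intro h
      exact (Nat.not_even_iff_odd.mpr hTodd) (even_iff_two_dvd.mpr h)
    obtain ⟨P, hOP⟩ := hO.exists_le_sylow
    obtain ⟨g, hg⟩ := MulAction.exists_smul_eq X (hT.toSylow hT2) P
    intro o ho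
    have h12 : o ∈ ((g • hT.toSylow hT2 : Sylow 2 X) : Subgroup X) := by
      rw [hg]; exact hOP ho
    rw [Sylow.coe_subgroup_smul, Subgroup.mem_pointwise_smul_iff_inv_smul_mem] at h12
    have h13 : g⁻¹ * o * g ∈ T := by
      simpa [MulAut.smul_def] using h12
    have h14 : g⁻¹ * o * g ∈ C := by
      have := hC.conj_mem o (hOC ho) g⁻¹
      simpa using this
    have h15 : g⁻¹ * o * g ∈ Q := hTCQ ⟨h13, h14⟩
    have h16 := hQ.conj_mem _ h15 g
    have h17 : g * (g⁻¹ * o * g) * g⁻¹ = o := by group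
    rwa [h17] at h16
  refine ⟨hOQ, C ⊔ W, inferInstance, sup_le (hKW.trans le_sup_right) le_sup_left, ?_⟩
  -- (e) `R = C ⊔ W` is abelian modulo `C`
  have hRW : ∀ r ∈ C ⊔ W, ∃ w ∈ W, π w = π r := by
    intro r hr
    have h18 : π r ∈ (C ⊔ W).map π := Subgroup.mem_map_of_mem π hr
    rw [Subgroup.map_sup, hπ, QuotientGroup.map_mk'_self, bot_sup_eq] at h18
    obtain ⟨w, hw, hwr⟩ := Subgroup.mem_map.mp h18
    exact ⟨w, hw, hwr⟩
  have hRcomm : ∀ r₁ ∈ C ⊔ W, ∀ r₂ ∈ C ⊔ W, r₁ * r₂ * r₁⁻¹ * r₂⁻¹ ∈ C := by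
    intro r₁ h₁ r₂ h₂
    obtain ⟨w₁, hw₁, e₁⟩ := hRW r₁ h₁
    obtain ⟨w₂, hw₂, e₂⟩ := hRW r₂ h₂
    have h19 : Commute (π r₁) (π r₂) := by
      rw [← e₁, ← e₂]; exact hWcomm w₁ hw₁ w₂ hw₂
    rw [← hπC, map_mul, map_mul, map_mul, map_inv, map_inv, mul_inv_eq_one,
      mul_inv_eq_iff_eq_mul]
    exact h19.eq
  have hKCR : K ⊔ C ≤ C ⊔ W := sup_le (hKW.trans le_sup_right) le_sup_left
  have hstep : ∀ r ∈ C ⊔ W, ∀ k ∈ K ⊔ C, r * k * r⁻¹ ∈ K ⊔ C := by
    intro r hr k hk
    have h20 : r * k * r⁻¹ = (r * k * r⁻¹ * k⁻¹) * k := by group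
    rw [h20]
    exact mul_mem (le_sup_right (a := K) (hRcomm r hr k (hKCR hk))) hk
  intro r hr
  rw [Subgroup.mem_normalizer_iff]
  intro k
  constructor
  · intro hk
    exact hstep r hr k hk
  · intro hk
    have h21 := hstep r⁻¹ (inv_mem hr) _ hk
    have h22 : r⁻¹ * (r * k * r⁻¹) * r⁻¹⁻¹ = k := by group
    rwa [h22] at h21

end Cfsg.Agent.Lib.Helper30.Sn

example : Cfsg.Agent.H52.Sn.StFinA.{u} := Cfsg.Agent.Lib.Helper30.Sn.finA
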