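import Mathlib
import Cfsg.Agent.H14.SpDefs

/-!
# SP-CORE (helper14's pure-involution step for S2944)

From the structure delivered by S0617 (`H = ⨆ E i`, `E i ≅ SL(2,2)`, `V = C_V(H) × ∏ [V, E i]`,
`H` faithful on `V`) and the four-group lemma `StFour`: an element `x ∈ H` of odd order whose
commutators with `V` lie in a subgroup of order at most 4 is inverted by an involution `t ∈ H`
with `[y, t] ∈ ⟨x⟩` for every `y` normalizing `H`, `V` and `⟨x⟩`.
-/

set_option autoImplicit false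

universe u

namespace Cfsg.Agent.Lib.Helper30.Sp

open Cfsg Cfsg.Agent.H14.Sp

open scoped commutatorElement

/-- Conjugation by an element preserving `A` and `B` preserves `⁅A, B⁆`. -/
theorem conj_mem_commutator {Y : Type u} [Group Y] (A B : Subgroup Y) (g : Y)
    (hA : ∀ a ∈ A, g * a * g⁻¹ ∈ A) (hB : ∀ b ∈ B, g * b * g⁻¹ ∈ B) :
    ∀ w ∈ ⁅A, B⁆, g * w * g⁻¹ ∈ ⁅A, B⁆ := by
  intro w hw
  have hw' : w ∈ Subgroup.closure {z | ∃ g₁ ∈ A, ∃ g₂ ∈ B, ⁅g₁, g₂⁆ = z} := hw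
  clear hw
  induction hw' using Subgroup.closure_induction with
  | mem z hz =>
    obtain ⟨a, ha, b, hb, rfl⟩ := hz
    have h1 : g * ⁅a, b⁆ * g⁻¹ = ⁅g * a * g⁻¹, g * b * g⁻¹⁆ := by
      simp only [commutatorElement_def]
      group
    rw [h1]
    exact Subgroup.commutator_mem_commutator (hA a ha) (hB b hb)
  | one => simp
  | mul a b _ _ ha hb =>
    have h1 : g * (a * b) * g⁻¹ = (g * a * g⁻¹) * (g * b * g⁻¹) := by group
    rw [h1]
    exact mul_mem ha hb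
  | inv a _ ha =>
    have h1 : g * a⁻¹ * g⁻¹ = (g * a * g⁻¹)⁻¹ := by group
    rw [h1]
    exact inv_mem ha

/-- The transvection of `SL(2, 2)`. -/
def s0 : Matrix.SpecialLinearGroup (Fin 2) (ZMod 2) :=
  ⟨!![1, 1; 0, 1], by simp [Matrix.det_fin_two]⟩

theorem s0_sq : s0 * s0 = 1 := by decide

theorem s0_ne : s0 ≠ 1 := by decide

theorem core (h4 : StFour.{u}) : Cfsg.Agent.H14.Sp.StCore.{u} := by
  intro Y _ _ ι V H E hV hHV hfaith hHE hEiso hcard hEind hEsup hind hsup x hxH hxodd hx1 W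
    hWcard hW
  have hEH : ∀ i, E i ≤ H := fun i => hEsup ▸ le_iSup E i
  have hconjV : ∀ g ∈ H, ∀ v ∈ V, g * v * g⁻¹ ∈ V := fun g hg v hv =>
    (Subgroup.mem_normalizer_iff.mp (hHV hg) v).mp hv
  have hconjE : ∀ i, ∀ g ∈ H, ∀ e ∈ E i, g * e * g⁻¹ ∈ E i := fun i g hg e he =>
    (Subgroup.mem_normalizer_iff.mp (hHE i hg) e).mp he
  have hconjW : ∀ i, ∀ g ∈ H, ∀ w ∈ ⁅V, E i⁆, g * w * g⁻¹ ∈ ⁅V, E i⁆ := fun i g hg =>
    conj_mem_commutator V (E i) g (hconjV g hg) (hconjE i g hg)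
  have hWV : ∀ i, ⁅V, E i⁆ ≤ V := by
    intro i
    rw [Subgroup.commutator_le]
    intro v hv e he
    have h1 : e * v⁻¹ * e⁻¹ ∈ V := hconjV e (hEH i he) v⁻¹ (V.inv_mem hv)
    have h2 : ⁅v, e⁆ = v * (e * v⁻¹ * e⁻¹) := by
      rw [commutatorElement_def]; group
    rw [h2]
    exact V.mul_mem hv h1
  have hdisj : ∀ l i, l ≠ i → Disjoint ⁅V, E l⁆ ⁅V, E i⁆ := fun l i hli =>
    hind.pairwiseDisjoint (fun h : (some l : Option ι) = some i => hli (Option.some.inj h))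
  -- (2) `E l` centralizes `W_i` for `l ≠ i`
  have hcentr : ∀ l i, l ≠ i → ∀ e ∈ E l, ∀ w ∈ ⁅V, E i⁆, Commute e w := by
    intro l i hli e he w hw
    have h1 : e * w * e⁻¹ * w⁻¹ ∈ ⁅V, E i⁆ := mul_mem (hconjW i e (hEH l he) w hw) (inv_mem hw)
    have h2 : e * w * e⁻¹ * w⁻¹ ∈ ⁅V, E l⁆ := by
      have h3 : ⁅w, e⁆ ∈ ⁅V, E l⁆ := Subgroup.commutator_mem_commutator (hWV i hw) he
      have h4' : e * w * e⁻¹ * w⁻¹ = ⁅w, e⁆⁻¹ := by
        rw [commutatorElement_def]; group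
      rw [h4']
      exact inv_mem h3
    have h5 := Subgroup.disjoint_def.mp (hdisj l i hli) h2 h1
    exact mul_inv_eq_iff_eq_mul.mp (mul_inv_eq_one.mp h5)
  -- (3) faithfulness
  have hfaithful : ∀ g ∈ H, (∀ l, ∀ w ∈ ⁅V, E l⁆, Commute g w) → g = 1 := by
    intro g hg hgw
    have hVle : V ≤ Subgroup.centralizer ({g} : Set Y) := by
      refine le_trans (le_of_eq hsup.symm) (sup_le ?_ (iSup_le ?_))
      · intro v hv
        rw [Subgroup.mem_centralizer_iff]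
        intro k hk
        rw [Set.mem_singleton_iff] at hk
        rw [hk]
        exact (Subgroup.mem_centralizer_iff.mp hv.2) g hg
      · intro l w hw
        rw [Subgroup.mem_centralizer_iff]
        intro k hk
        rw [Set.mem_singleton_iff] at hk
        rw [hk]
        exact (hgw l w hw).eq
    have hgC : g ∈ Subgroup.centralizer (V : Set Y) := by
      rw [Subgroup.mem_centralizer_iff]
      intro v hv
      exact ((Subgroup.mem_centralizer_iff.mp (hVle hv)) g rfl).symm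
    have hmem : g ∈ H ⊓ Subgroup.centralizer (V : Set Y) := ⟨hg, hgC⟩
    rw [hfaith] at hmem
    exact Subgroup.mem_bot.mp hmem
  -- `x` moves some `W_i`
  obtain ⟨i, w₀, hw₀, hxw₀⟩ : ∃ i, ∃ w ∈ ⁅V, E i⁆, x * w * x⁻¹ ≠ w := by
    by_contra hcon
    push Not at hcon
    exact hx1 (hfaithful x hxH (fun l w hw => mul_inv_eq_iff_eq_mul.mp (hcon l w hw)))
  -- (4) the involution
  obtain ⟨φ⟩ := hEiso i
  set t : Y := ((φ.symm s0 : ↥(E i)) : Y) with ht
  have htE : t ∈ E i := (φ.symm s0).2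
  have htH : t ∈ H := hEH i htE
  have ht2 : t * t = 1 := by
    have h1 : φ.symm s0 * φ.symm s0 = 1 := by rw [← map_mul, s0_sq, map_one]
    have h2 := congrArg (Subtype.val : ↥(E i) → Y) h1
    simpa using h2
  have ht1 : t ≠ 1 := by
    intro h
    have h1 : φ.symm s0 = 1 := Subtype.ext h
    exact s0_ne ((MulEquiv.map_eq_one_iff φ.symm).mp h1)
  have htmove : ∃ w ∈ ⁅V, E i⁆, t * w * t⁻¹ ≠ w := by
    by_contra hcon
    push Not at hcon
    apply ht1
    apply hfaithful t htH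
    intro l w hw
    by_cases hl : l = i
    · subst hl
      exact mul_inv_eq_iff_eq_mul.mp (hcon w hw)
    · exact hcentr i l (Ne.symm hl) t htE w hw
  have hsq : ∀ w ∈ ⁅V, E i⁆, w * w = 1 := fun w hw => by
    have h1 := hV.2 w (hWV i hw)
    rwa [pow_two] at h1
  -- (5) the four-group lemma
  obtain ⟨F1, F2, F3, -⟩ := h4 ⁅V, E i⁆ x t t (hcard i) hsq (hconjW i x hxH) (hconjW i t htH)
    (hconjW i t htH) hxodd ht2 ht2 ⟨w₀, hw₀, hxw₀⟩ htmove htmove
  have hWiW : ⁅V, E i⁆ ≤ W := by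
    intro w hw
    obtain ⟨u, hu, rfl⟩ := F2 w hw
    exact hW u (hWV i hu)
  have hWeq : ⁅V, E i⁆ = W :=
    Subgroup.eq_of_le_of_card_ge hWiW (by rw [hcard i]; exact hWcard)
  have hxcentr : ∀ l, l ≠ i → ∀ w ∈ ⁅V, E l⁆, Commute x w := by
    intro l hl w hw
    have h1 : x * w * x⁻¹ * w⁻¹ ∈ ⁅V, E l⁆ := mul_mem (hconjW l x hxH w hw) (inv_mem hw)
    have h2 : x * w * x⁻¹ * w⁻¹ ∈ ⁅V, E i⁆ := by
      rw [hWeq]; exact hW w (hWV l hw)
    exact mul_inv_eq_iff_eq_mul.mp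
      (mul_inv_eq_one.mp (Subgroup.disjoint_def.mp (hdisj l i hl) h1 h2))
  -- (6) `t` inverts `x`
  have hinvx : t * x * t⁻¹ = x⁻¹ := by
    have hg : t * x * t⁻¹ * x ∈ H := mul_mem (mul_mem (mul_mem htH hxH) (inv_mem htH)) hxH
    have h1 := hfaithful _ hg (by
      intro l w hw
      by_cases hl : l = i
      · subst hl
        exact mul_inv_eq_iff_eq_mul.mp (F3 w hw)
      · have e1 : Commute t w := hcentr i l (Ne.symm hl) t htE w hw
        have e2 : Commute x w := hxcentr l hl w hw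
        exact ((e1.mul_left e2).mul_left e1.inv_left).mul_left e2)
    exact mul_eq_one_iff_eq_inv.mp h1
  -- (7) Claim A: `t` centralizes the fixed points of `x` on `V`
  have hA : ∀ v ∈ V, Commute x v → Commute t v := by
    intro v hv hxv
    have h1 : Commute (t * x * t⁻¹) (t * v * t⁻¹) := by
      have h2 := hxv.map (MulAut.conj t)
      simpa [MulAut.conj_apply] using h2
    rw [hinvx] at h1
    have h3 : Commute x (t * v * t⁻¹) := by
      have h4' := h1.inv_left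
      rwa [inv_inv] at h4'
    have h5 : Commute x (t * v * t⁻¹ * v⁻¹) := h3.mul_right hxv.inv_right
    have h6 : t * v * t⁻¹ * v⁻¹ ∈ ⁅V, E i⁆ := by
      have h7 : ⁅v, t⁆ ∈ ⁅V, E i⁆ := Subgroup.commutator_mem_commutator hv htE
      have h8 : t * v * t⁻¹ * v⁻¹ = ⁅v, t⁆⁻¹ := by
        rw [commutatorElement_def]; group
      rw [h8]
      exact inv_mem h7
    have h9 := F1 _ h6 (mul_inv_eq_iff_eq_mul.mpr h5.eq)
    exact mul_inv_eq_iff_eq_mul.mp (mul_inv_eq_one.mp h9)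
  refine ⟨t, htH, ht2, hinvx, ?_⟩
  intro y hyH hyV hyx
  have ht'H : y * t * y⁻¹ ∈ H := (Subgroup.mem_normalizer_iff.mp hyH t).mp htH
  have ht'2 : (y * t * y⁻¹) * (y * t * y⁻¹) = 1 := by
    have h1 : (y * t * y⁻¹) * (y * t * y⁻¹) = y * (t * t) * y⁻¹ := by group
    rw [h1, ht2]; group
  have ht'1 : y * t * y⁻¹ ≠ 1 := by
    intro h
    apply ht1
    have h1 : t = y⁻¹ * (y * t * y⁻¹) * y := by group
    rw [h1, h]; group
  -- Claim B: `y⁻¹` preserves the fixed points of `x` on `V`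
  have hB : ∀ v ∈ V, Commute x v → Commute x (y⁻¹ * v * y) := by
    intro v hv hxv
    have hz : Commute (y * x * y⁻¹) v := by
      rcases hyx with h | h
      · rw [h]; exact hxv
      · rw [h]; exact hxv.inv_left
    have h2 := hz.map (MulAut.conj y⁻¹)
    have h3 : (MulAut.conj y⁻¹) (y * x * y⁻¹) = x := by
      rw [MulAut.conj_apply]; group
    have h4' : (MulAut.conj y⁻¹) v = y⁻¹ * v * y := by
      rw [MulAut.conj_apply]; group
    rwa [h3, h4'] at h2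
  have hyinvV : ∀ v ∈ V, y⁻¹ * v * y ∈ V := by
    intro v hv
    have h1 := (Subgroup.mem_normalizer_iff.mp (inv_mem hyV) v).mp hv
    rwa [inv_inv] at h1
  have hA' : ∀ v ∈ V, Commute x v → Commute (y * t * y⁻¹) v := by
    intro v hv hxv
    have h1 : Commute t (y⁻¹ * v * y) := hA _ (hyinvV v hv) (hB v hv hxv)
    have h2 := h1.map (MulAut.conj y)
    have h3 : (MulAut.conj y) (y⁻¹ * v * y) = v := by
      rw [MulAut.conj_apply]; group
    rw [h3, MulAut.conj_apply] at h2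
    exact h2
  have ht'move : ∃ w ∈ ⁅V, E i⁆, (y * t * y⁻¹) * w * (y * t * y⁻¹)⁻¹ ≠ w := by
    by_contra hcon
    push Not at hcon
    apply ht'1
    apply hfaithful _ ht'H
    intro l w hw
    by_cases hl : l = i
    · subst hl
      exact mul_inv_eq_iff_eq_mul.mp (hcon w hw)
    · exact hA' w (hWV l hw) (hxcentr l hl w hw)
  obtain ⟨-, -, -, m, hm⟩ := h4 ⁅V, E i⁆ x t (y * t * y⁻¹) (hcard i) hsq (hconjW i x hxH)
    (hconjW i t htH) (hconjW i _ ht'H) hxodd ht2 ht'2 ⟨w₀, hw₀, hxw₀⟩ htmove ht'move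
  refine ⟨m, ?_⟩
  have hxm : x ^ m ∈ H := pow_mem hxH m
  have hg : y * t * y⁻¹ * t⁻¹ * (x ^ m)⁻¹ ∈ H :=
    mul_mem (mul_mem ht'H (inv_mem htH)) (inv_mem hxm)
  have h1 := hfaithful _ hg (by
    intro l w hw
    by_cases hl : l = i
    · subst hl
      have hw' : (x ^ m)⁻¹ * w * x ^ m ∈ ⁅V, E l⁆ := by
        have h2 := hconjW l (x ^ m)⁻¹ (inv_mem hxm) w hw
        rwa [inv_inv] at h2
      have h3 := hm _ hw'
      apply mul_inv_eq_iff_eq_mul.mp
      calc y * t * y⁻¹ * t⁻¹ * (x ^ m)⁻¹ * w * (y * t * y⁻¹ * t⁻¹ * (x ^ m)⁻¹)⁻¹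
          = (y * t * y⁻¹ * t⁻¹) * ((x ^ m)⁻¹ * w * x ^ m) * (y * t * y⁻¹ * t⁻¹)⁻¹ := by group
        _ = x ^ m * ((x ^ m)⁻¹ * w * x ^ m) * (x ^ m)⁻¹ := h3
        _ = w := by group
    · have e0 : Commute x w := hxcentr l hl w hw
      have e1 : Commute (y * t * y⁻¹) w := hA' w (hWV l hw) e0
      have e2 : Commute t w := hA w (hWV l hw) e0
      exact (e1.mul_left e2.inv_left).mul_left (e0.pow_left m).inv_left)
  exact mul_inv_eq_one.mp h1

end Cfsg.Agent.Lib.Helper30.Sp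

example (h : Cfsg.Agent.H14.Sp.StFour.{u}) : Cfsg.Agent.H14.Sp.StCore.{u} :=
  Cfsg.Agent.Lib.Helper30.Sp.core h
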