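import Mathlib
import Cfsg.Agent.H4.TnDefs
import Cfsg.Agent.H82.Irr

/-!
# TN-INV (helper4's S3805 project): the involution formula

`18 k² (f - χ₁(x))² = f (f+1) |G| i_a(x)²` from `P₁ = 1 + χ₁ - χ₂`, the class-sum formula
`∑_{s,t} χ(x^s x^t) = |G|² χ(x)² / χ(1)` and the two pair counts.
-/

set_option autoImplicit false

universe u

namespace Cfsg.Agent.Lib.Helper30.Tn

open Cfsg.Agent.H4.Tn

theorem inv (hV : StVals.{u}) (hL : StPairsLoc.{u}) (hG : StPairsGlob.{u}) :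
    Cfsg.Agent.H4.Tn.StInv.{u} := by
  intro G _ _ T a b u v cfg χ₁ χ₂ hdec x hx
  classical
  have : Fintype G := Fintype.ofFinite G
  obtain ⟨-, -, -, -, hinv⟩ := hV G T a b u v cfg
  have hx' : x ∉ S1G a b u := hinv x hx
  have h1' : (1 : G) ∉ S1G a b u := hinv 1 (by simp)
  have hLx := hL G T a b u v cfg x hx
  have hGx := hG G T a b u v cfg x
  -- values of `χ₂`
  have e1 : χ₂.1 1 = χ₁.1 1 + 1 := by
    have := hdec 1
    rw [P1, Set.indicator_of_notMem h1'] at this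
    linear_combination -this
  have e2 : χ₂.1 x = χ₁.1 x + 1 := by
    have := hdec x
    rw [P1, Set.indicator_of_notMem hx'] at this
    linear_combination -this
  have hf : χ₁.1 1 ≠ 0 := Cfsg.Agent.H82.irr_one_ne_zero χ₁
  have hf1 : χ₁.1 1 + 1 ≠ 0 := by
    rw [← e1]; exact Cfsg.Agent.H82.irr_one_ne_zero χ₂
  set cl : Finset G := Finset.univ.filter (fun y => IsConj x y) with hcl
  set m : ℕ := (Finset.univ.filter (fun s : G => s * x * s⁻¹ = x)).card with hm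
  -- all fibres of `s ↦ s x s⁻¹` have the same size
  have hfib : ∀ y ∈ cl, (Finset.univ.filter (fun s : G => s * x * s⁻¹ = y)).card = m := by
    intro y hy
    rw [hcl, Finset.mem_filter] at hy
    obtain ⟨c, hc⟩ := isConj_iff.mp hy.2
    rw [hm]
    apply Finset.card_bij (fun s _ => c⁻¹ * s)
    · intro s hs
      rw [Finset.mem_filter] at hs ⊢
      refine ⟨Finset.mem_univ _, ?_⟩
      have h2 := hs.2
      rw [← hc] at h2
      have h3 : c⁻¹ * s * x * (c⁻¹ * s)⁻¹ = c⁻¹ * (s * x * s⁻¹) * c := by group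
      rw [h3, h2]; group
    · intro s₁ _ s₂ _ h
      exact mul_left_cancel h
    · intro s hs
      rw [Finset.mem_filter] at hs
      refine ⟨c * s, ?_, by simp⟩
      rw [Finset.mem_filter]
      refine ⟨Finset.mem_univ _, ?_⟩
      have h3 : c * s * x * (c * s)⁻¹ = c * (s * x * s⁻¹) * c⁻¹ := by group
      rw [h3, hs.2, hc]
  have hsum : ∀ f : G → ℂ, ∑ s : G, f (s * x * s⁻¹) = (m : ℂ) * ∑ y ∈ cl, f y := by
    intro f
    rw [← Finset.sum_fiberwise_of_maps_to (s := Finset.univ) (t := cl)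
      (g := fun s => s * x * s⁻¹)
      (fun s _ => by
        rw [hcl, Finset.mem_filter]
        exact ⟨Finset.mem_univ _, isConj_iff.mpr ⟨s, rfl⟩⟩)
      (fun s => f (s * x * s⁻¹)), Finset.mul_sum]
    refine Finset.sum_congr rfl fun y hy => ?_
    have h4 : ∀ s ∈ Finset.univ.filter (fun s : G => s * x * s⁻¹ = y),
        f (s * x * s⁻¹) = f y := by
      intro s hs
      rw [(Finset.mem_filter.mp hs).2]
    rw [Finset.sum_congr rfl h4, Finset.sum_const, hfib y hy, nsmul_eq_mul]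
  have hkm : (cl.card : ℂ) * (m : ℂ) = (Nat.card G : ℂ) := by
    have h5 := hsum (fun _ => 1)
    simp only [Finset.sum_const, Finset.card_univ, nsmul_eq_mul, mul_one] at h5
    rw [Nat.card_eq_fintype_card, h5]; ring
  have hdouble : ∀ F : G → ℂ, ∑ s : G, ∑ t : G, F (s * x * s⁻¹ * (t * x * t⁻¹)) =
      (m : ℂ) ^ 2 * ∑ y ∈ cl, ∑ z ∈ cl, F (y * z) := by
    intro F
    have h6 : ∀ s : G, ∑ t : G, F (s * x * s⁻¹ * (t * x * t⁻¹)) =
        (m : ℂ) * ∑ z ∈ cl, F (s * x * s⁻¹ * z) :=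
      fun s => hsum (fun w => F (s * x * s⁻¹ * w))
    rw [Finset.sum_congr rfl (fun s _ => h6 s), ← Finset.mul_sum,
      hsum (fun y => ∑ z ∈ cl, F (y * z))]
    ring
  -- the cardinalities
  have hk : Nat.card {y : G // IsConj x y} = cl.card := by
    rw [Nat.card_eq_fintype_card, Fintype.card_subtype]
  have hPg : Nat.card {p : G × G // IsConj x p.1 ∧ IsConj x p.2 ∧ p.1 * p.2 ∈ S1G a b u} =
      ((cl ×ˢ cl).filter (fun p : G × G => p.1 * p.2 ∈ S1G a b u)).card := by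
    rw [Nat.card_eq_fintype_card, Fintype.card_subtype]
    congr 1
    ext p
    simp only [Finset.mem_filter, Finset.mem_univ, true_and, Finset.mem_product, hcl]
    tauto
  -- the double sum of `P₁`, counted
  have hB : ∑ s : G, ∑ t : G, P1 a b u (s * x * s⁻¹ * (t * x * t⁻¹)) =
      (m : ℂ) ^ 2 * (3 * (Nat.card {p : G × G // IsConj x p.1 ∧ IsConj x p.2 ∧
        p.1 * p.2 ∈ S1G a b u} : ℂ)) := by
    rw [hdouble (P1 a b u), hPg]
    congr 1
    rw [← Finset.sum_product' cl cl (fun y z => P1 a b u (y * z)), Finset.card_filter]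
    push_cast
    rw [Finset.mul_sum]
    refine Finset.sum_congr rfl fun p _ => ?_
    by_cases hp : p.1 * p.2 ∈ S1G a b u
    · simp [P1, hp]
    · simp [P1, hp]
  -- the double sum of `P₁`, by characters
  have hA : ∑ s : G, ∑ t : G, P1 a b u (s * x * s⁻¹ * (t * x * t⁻¹)) =
      (Nat.card G : ℂ) ^ 2 + (Nat.card G : ℂ) ^ 2 * χ₁.1 x * χ₁.1 x / χ₁.1 1 -
        (Nat.card G : ℂ) ^ 2 * (χ₁.1 x + 1) * (χ₁.1 x + 1) / (χ₁.1 1 + 1) := by
    have h7 : ∀ s t : G, P1 a b u (s * x * s⁻¹ * (t * x * t⁻¹)) =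
        1 + χ₁.1 (s * x * s⁻¹ * (t * x * t⁻¹)) - χ₂.1 (s * x * s⁻¹ * (t * x * t⁻¹)) :=
      fun s t => (hdec _).symm
    rw [Finset.sum_congr rfl (fun s _ => Finset.sum_congr rfl (fun t _ => h7 s t))]
    simp only [Finset.sum_sub_distrib, Finset.sum_add_distrib]
    rw [Cfsg.Agent.H82.irr_sum_sum χ₁ x x, Cfsg.Agent.H82.irr_sum_sum χ₂ x x, e1, e2]
    simp only [Finset.sum_const, Finset.card_univ, nsmul_eq_mul, mul_one,
      Nat.card_eq_fintype_card]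
    ring
  have hn0 : (Nat.card G : ℂ) ≠ 0 := by
    have : 0 < Nat.card G := Nat.card_pos
    exact_mod_cast this.ne'
  have hm0 : (m : ℂ) ≠ 0 := by
    intro h
    rw [h, mul_zero] at hkm
    exact hn0 hkm.symm
  have hAB := hA.symm.trans hB
  have h8 : (Nat.card G : ℂ) ^ 2 * (χ₁.1 1 - χ₁.1 x) ^ 2 =
      ((Nat.card G : ℂ) ^ 2 + (Nat.card G : ℂ) ^ 2 * χ₁.1 x * χ₁.1 x / χ₁.1 1 -
        (Nat.card G : ℂ) ^ 2 * (χ₁.1 x + 1) * (χ₁.1 x + 1) / (χ₁.1 1 + 1)) *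
        (χ₁.1 1 * (χ₁.1 1 + 1)) := by
    field_simp
    ring
  rw [hAB, ← hkm] at h8
  have hK : (cl.card : ℂ) ^ 2 * (χ₁.1 1 - χ₁.1 x) ^ 2 =
      3 * (Nat.card {p : G × G // IsConj x p.1 ∧ IsConj x p.2 ∧
        p.1 * p.2 ∈ S1G a b u} : ℂ) * (χ₁.1 1 * (χ₁.1 1 + 1)) := by
    have hm2 : (m : ℂ) ^ 2 ≠ 0 := pow_ne_zero 2 hm0
    apply mul_left_cancel₀ hm2
    linear_combination h8
  have hGc : (36 : ℂ) * (Nat.card {p : G × G // IsConj x p.1 ∧ IsConj x p.2 ∧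
        p.1 * p.2 ∈ S1G a b u} : ℂ) = (Nat.card G : ℂ) *
        (Nat.card {p : G × G // IsConj x p.1 ∧ IsConj x p.2 ∧ p.1 * p.2 ∈ S1 a b u} : ℂ) := by
    exact_mod_cast hGx
  have hLc : (3 : ℂ) * (Nat.card {p : G × G // IsConj x p.1 ∧ IsConj x p.2 ∧
        p.1 * p.2 ∈ S1 a b u} : ℂ) =
      2 * (Nat.card {y : G // IsConj x y ∧ y * a * y⁻¹ = a⁻¹} : ℂ) ^ 2 := by
    exact_mod_cast hLx
  rw [hk]
  linear_combination 18 * hK + (3 / 2 : ℂ) * (χ₁.1 1 * (χ₁.1 1 + 1)) * hGc +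
    (1 / 2 : ℂ) * (Nat.card G : ℂ) * (χ₁.1 1 * (χ₁.1 1 + 1)) * hLc

end Cfsg.Agent.Lib.Helper30.Tn

example (hV : Cfsg.Agent.H4.Tn.StVals.{u}) (hL : Cfsg.Agent.H4.Tn.StPairsLoc.{u})
    (hG : Cfsg.Agent.H4.Tn.StPairsGlob.{u}) : Cfsg.Agent.H4.Tn.StInv.{u} :=
  Cfsg.Agent.Lib.Helper30.Tn.inv hV hL hG
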