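import Cfsg.Agent.Lib.Helper30.Trans
import Cfsg.Agent.Lib.Helper30.FixedPoints

/-!
# Bender–Glauberman §7: Theorems 7.3 and 7.4 (helper30)
-/

set_option autoImplicit false

namespace Cfsg.Agent.Lib.Helper30

open Cfsg
open scoped Pointwise

variable {G : Type*} [Group G]

/-! ### Centralizers of non-identity elements are proper -/

theorem minSimple_centralizer_singleton_ne_top (hG : IsMinSimpleOddOrder G) {b : G} (hb : b ≠ 1) :
    Subgroup.centralizer ({b} : Set G) ≠ ⊤ := by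
  intro h
  have := hG.2.1
  have hbc : b ∈ Subgroup.center G := by
    rw [Subgroup.mem_center_iff]
    intro g
    have hg : g ∈ Subgroup.centralizer ({b} : Set G) := h ▸ Subgroup.mem_top g
    rw [Subgroup.mem_centralizer_iff] at hg
    exact (hg b rfl).symm
  rcases (inferInstance : (Subgroup.center G).Normal).eq_bot_or_eq_top with h1 | h1
  · rw [h1, Subgroup.mem_bot] at hbc
    exact hb hbc
  · exact hG.2.2.1 (Subgroup.center_eq_top_iff.mp h1)

/-! ### The centre of a subgroup, as a subgroup of the ambient group -/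

theorem isMulCommutative_inf_centralizer (Q : Subgroup G) :
    IsMulCommutative ↥(Q ⊓ Subgroup.centralizer (Q : Set G)) := by
  refine ⟨⟨fun a b => ?_⟩⟩
  have ha : (a : G) ∈ Q := (Subgroup.mem_inf.mp a.2).1
  have hb : (b : G) ∈ Subgroup.centralizer (Q : Set G) := (Subgroup.mem_inf.mp b.2).2
  rw [Subgroup.mem_centralizer_iff] at hb
  exact Subtype.ext (hb a ha)

theorem inf_centralizer_ne_bot [Finite G] {p : ℕ} [Fact p.Prime] {Q : Subgroup G}
    (hQ : IsPGroup p Q) (hQ1 : Q ≠ ⊥) : Q ⊓ Subgroup.centralizer (Q : Set G) ≠ ⊥ := by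
  have : Nontrivial Q := (Subgroup.nontrivial_iff_ne_bot Q).mpr hQ1
  have hnt : Nontrivial (Subgroup.center Q) := hQ.center_nontrivial
  obtain ⟨z, hz⟩ := exists_ne (1 : Subgroup.center Q)
  intro h
  apply hz
  have hz' : ((z : Q) : G) ∈ Q ⊓ Subgroup.centralizer (Q : Set G) := by
    refine Subgroup.mem_inf.mpr ⟨(z : Q).2, ?_⟩
    rw [Subgroup.mem_centralizer_iff]
    intro x hx
    have := Subgroup.mem_center_iff.mp z.2 ⟨x, hx⟩
    exact congrArg Subtype.val this
  rw [h, Subgroup.mem_bot] at hz'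
  exact Subtype.ext (Subtype.ext hz')

theorem normalizer_le_normalizer_centralizer (Q : Subgroup G) :
    Subgroup.normalizer (Q : Set G) ≤ Subgroup.normalizer (Subgroup.centralizer (Q : Set G) : Set G) := by
  intro g hg
  rw [Subgroup.mem_normalizer_iff]
  have key : ∀ g : G, g ∈ Subgroup.normalizer (Q : Set G) → ∀ z ∈ Subgroup.centralizer (Q : Set G),
      g * z * g⁻¹ ∈ Subgroup.centralizer (Q : Set G) := by
    intro g hg z hz
    rw [Subgroup.mem_centralizer_iff] at hz ⊢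
    intro x hx
    have hx' : g⁻¹ * x * g ∈ Q := (Subgroup.mem_normalizer_iff''.mp hg x).mp hx
    have := hz _ hx'
    calc x * (g * z * g⁻¹) = g * ((g⁻¹ * x * g) * z) * g⁻¹ := by group
      _ = g * (z * (g⁻¹ * x * g)) * g⁻¹ := by rw [this]
      _ = g * z * g⁻¹ * x := by group
  intro z
  constructor
  · exact key g hg z
  · intro hz
    have := key g⁻¹ (Subgroup.inv_mem _ hg) _ hz
    simpa [mul_assoc] using this

theorem normalizer_le_normalizer_inf_centralizer (Q : Subgroup G) :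
    Subgroup.normalizer (Q : Set G)
      ≤ Subgroup.normalizer ((Q ⊓ Subgroup.centralizer (Q : Set G) : Subgroup G) : Set G) :=
  (le_inf le_rfl (normalizer_le_normalizer_centralizer Q)).trans
    Subgroup.inf_normalizer_le_normalizer_inf

/-! ### Extracting elementary abelian subgroups from rank hypotheses -/

theorem exists_elementary_of_not_pRankLE {p k : ℕ} {Z : Subgroup G}
    (h : ¬ PRankLE p k ↥Z) :
    ∃ B : Subgroup G, B ≤ Z ∧ (∀ a ∈ B, ∀ b ∈ B, a * b = b * a) ∧ (∀ b ∈ B, b ^ p = 1) ∧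
      p ^ k < Nat.card B := by
  unfold PRankLE at h
  push Not at h
  obtain ⟨B, hBc, hBp, hBcard⟩ := h
  refine ⟨B.map Z.subtype, ?_, ?_, ?_, ?_⟩
  · rintro x ⟨y, -, rfl⟩
    exact y.2
  · rintro a ⟨a', ha', rfl⟩ b ⟨b', hb', rfl⟩
    have := hBc.is_comm.comm ⟨a', ha'⟩ ⟨b', hb'⟩
    have h2 : a' * b' = b' * a' := congrArg Subtype.val this
    exact congrArg Subtype.val h2
  · rintro b ⟨b', hb', rfl⟩
    have := hBp b' hb'
    exact congrArg Subtype.val this
  · rw [Subgroup.card_map_of_injective Z.subtype_injective]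
    exact hBcard

theorem exists_elementary_of_not_rankLE {k : ℕ} {Z : Subgroup G} (h : ¬ RankLE k ↥Z) :
    ∃ p : ℕ, p.Prime ∧ ∃ B : Subgroup G, B ≤ Z ∧ (∀ a ∈ B, ∀ b ∈ B, a * b = b * a) ∧
      (∀ b ∈ B, b ^ p = 1) ∧ p ^ k < Nat.card B := by
  unfold RankLE at h
  push Not at h
  obtain ⟨p, hp, hp'⟩ := h
  exact ⟨p, hp, exists_elementary_of_not_pRankLE hp'⟩

/-- A nontrivial subgroup of exponent `p` inside `A` forces `p ∣ #A`. -/
theorem dvd_card_of_exponent_prime [Finite G] {p : ℕ} [Fact p.Prime] {A B : Subgroup G}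
    (hBA : B ≤ A) (hBp : ∀ b ∈ B, b ^ p = 1) (hB1 : 1 < Nat.card B) : p ∣ Nat.card A := by
  have hB : B ≠ ⊥ := by
    intro h
    rw [h, Subgroup.card_bot] at hB1
    exact lt_irrefl _ hB1
  obtain ⟨x, hx⟩ := Subgroup.ne_bot_iff_exists_ne_one.mp hB
  have hx1 : (x : G) ≠ 1 := fun h => hx (Subtype.ext h)
  have hxo : orderOf (x : G) = p := orderOf_eq_prime (hBp x x.2) hx1
  have : orderOf (⟨x, hBA x.2⟩ : A) = p := by rw [Subgroup.orderOf_mk]; exact hxo
  rw [← this]
  exact orderOf_dvd_natCard _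

/-! ### Theorem 7.4 -/

/-- Bender–Glauberman Theorem 7.4. -/
theorem trans_of_rank_two (hG : IsMinSimpleOddOrder G) [Finite G] {A : Subgroup G}
    (hA : TransitivityHypothesis A)
    (hZ : ¬ RankLE 1 ↥(A ⊓ Subgroup.centralizer (A : Set G)))
    {q : ℕ} (hq : q.Prime) (hqA : ¬ q ∣ Nat.card A)
    (hqC : q ∣ Nat.card (Subgroup.centralizer (A : Set G))) :
    ∀ Q₁ ∈ maxInvSubgroups ⊤ A {q}, ∀ Q₂ ∈ maxInvSubgroups ⊤ A {q},
      ∃ k ∈ piCoreOf (primesNotDvd (Nat.card A)) (Subgroup.centralizer (A : Set G)),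
        Q₂ = Q₁.map (MulAut.conj k).toMonoidHom := by
  have : Fact q.Prime := ⟨hq⟩
  set K := piCoreOf (primesNotDvd (Nat.card A)) (Subgroup.centralizer (A : Set G)) with hK
  obtain ⟨p, hp, B, hBZ, hBc, hBp, hBcard⟩ := exists_elementary_of_not_rankLE hZ
  have : Fact p.Prime := ⟨hp⟩
  rw [pow_one] at hBcard
  have hBA : B ≤ A := hBZ.trans inf_le_left
  have hBCA : B ≤ Subgroup.centralizer (A : Set G) := hBZ.trans inf_le_right
  have hpA : p ∣ Nat.card A := dvd_card_of_exponent_prime hBA hBp (lt_trans hp.one_lt hBcard)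
  have hpq : p ≠ q := fun h => hqA (h ▸ hpA)
  -- a nontrivial `A`-invariant `q`-subgroup of `C_G(A)`
  obtain ⟨c, hc⟩ := exists_prime_orderOf_dvd_card' (G := Subgroup.centralizer (A : Set G)) q hqC
  have hcG : orderOf (c : G) = q := by rw [Subgroup.orderOf_coe]; exact hc
  have hc1 : (c : G) ≠ 1 := by
    intro h
    rw [h, orderOf_one] at hcG
    exact hq.one_lt.ne hcG
  have hcA : ∀ a ∈ A, a * (c : G) = (c : G) * a := fun a ha =>
    Subgroup.mem_centralizer_iff.mp c.2 a ha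
  have hS : Subgroup.zpowers (c : G) ∈ invSubgroups ⊤ A {q} := by
    refine ⟨le_top, ?_, ?_⟩
    · have : Nat.card (Subgroup.zpowers (c : G)) = q ^ 1 := by rw [Nat.card_zpowers, hcG, pow_one]
      exact isPi_singleton_of_isPGroup (IsPGroup.of_card this)
    · rw [Subgroup.le_normalizer_iff]
      intro a ha k hk
      have : a * k * a⁻¹ = k := by
        have hk' : k ∈ Subgroup.centralizer ({a} : Set G) := by
          have hle : Subgroup.zpowers (c : G) ≤ Subgroup.centralizer ({a} : Set G) := by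
            rw [Subgroup.zpowers_le]
            rw [Subgroup.mem_centralizer_iff]
            intro h hh
            rw [Set.mem_singleton_iff] at hh
            subst hh
            exact hcA h ha
          exact hle hk
        rw [Subgroup.mem_centralizer_iff] at hk'
        rw [hk' a rfl]
        simp
      rw [this]
      exact hk
  obtain ⟨Q₀, hQ₀, hSQ₀⟩ := exists_le_maxInvSubgroups hS
  have hcQ₀ : (c : G) ∈ Q₀ := hSQ₀ (Subgroup.mem_zpowers _)
  -- every maximal invariant `q`-subgroup is conjugate to `Q₀`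
  have key : ∀ Q ∈ maxInvSubgroups ⊤ A {q}, ∃ k ∈ K, Q₀ = Q.map (MulAut.conj k).toMonoidHom := by
    intro Q hQ
    have hQp : IsPGroup q Q := isPGroup_of_isPi_singleton hQ.1.2.1
    have hQ1 : Q ≠ ⊥ := by
      intro h
      have := hQ.2 _ hS (h ▸ bot_le)
      rw [h] at this
      have hc' : (c : G) ∈ (⊥ : Subgroup G) := this ▸ Subgroup.mem_zpowers _
      exact hc1 (Subgroup.mem_bot.mp hc')
    set V := Q ⊓ Subgroup.centralizer (Q : Set G) with hV
    have hV1 : V ≠ ⊥ := inf_centralizer_ne_bot hQp hQ1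
    have hVc : IsMulCommutative V := isMulCommutative_inf_centralizer Q
    have hVp : IsPGroup q V := hQp.to_le inf_le_left
    have hcop : (Nat.card V).Coprime p := by
      obtain ⟨n, hn⟩ := IsPGroup.iff_card.mp hVp
      rw [hn]
      exact Nat.Coprime.pow_left n ((Nat.coprime_primes hq hp).mpr (Ne.symm hpq))
    have hBV : B ≤ Subgroup.normalizer (V : Set G) :=
      (hBA.trans hQ.1.2.2).trans (normalizer_le_normalizer_inf_centralizer Q)
    obtain ⟨b, hbB, hb1, v, hv, hv1, hbv⟩ :=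
      exists_commuting_of_card_gt hBc hBp hBcard hVc hV1 hcop hBV
    -- `H = C_G(b)`
    have hH : Subgroup.centralizer ({b} : Set G) ≠ ⊤ := minSimple_centralizer_singleton_ne_top hG hb1
    have hAH : A ≤ Subgroup.centralizer ({b} : Set G) := by
      intro a ha
      rw [Subgroup.mem_centralizer_iff]
      intro h hh
      rw [Set.mem_singleton_iff] at hh
      subst hh
      exact (Subgroup.mem_centralizer_iff.mp (hBCA hbB) a ha).symm
    have hH₁ : Subgroup.centralizer ({b} : Set G) ⊓ Q ≠ ⊥ := by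
      intro h
      have hvm : v ∈ Subgroup.centralizer ({b} : Set G) ⊓ Q := by
        refine Subgroup.mem_inf.mpr ⟨?_, (Subgroup.mem_inf.mp hv).1⟩
        rw [Subgroup.mem_centralizer_iff]
        intro h hh
        rw [Set.mem_singleton_iff] at hh
        subst hh
        exact hbv
      rw [h, Subgroup.mem_bot] at hvm
      exact hv1 hvm
    have hH₂ : Subgroup.centralizer ({b} : Set G) ⊓ Q₀ ≠ ⊥ := by
      intro h
      have hcm : (c : G) ∈ Subgroup.centralizer ({b} : Set G) ⊓ Q₀ := by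
        refine Subgroup.mem_inf.mpr ⟨?_, hcQ₀⟩
        rw [Subgroup.mem_centralizer_iff]
        intro b' hh
        rw [Set.mem_singleton_iff] at hh
        subst hh
        exact hcA b' (hBA hbB)
      rw [h, Subgroup.mem_bot] at hcm
      exact hc1 hcm
    exact conj_of_meet_proper hG hA hq hqA Q Q₀ hQ hQ₀ _ hH hAH hH₁ hH₂
  intro Q₁ hQ₁ Q₂ hQ₂
  obtain ⟨k₁, hk₁, hk₁Q⟩ := key Q₁ hQ₁
  obtain ⟨k₂, hk₂, hk₂Q⟩ := key Q₂ hQ₂
  refine ⟨k₂⁻¹ * k₁, K.mul_mem (K.inv_mem hk₂) hk₁, ?_⟩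
  rw [← map_conj_map_conj, ← hk₁Q, hk₂Q, map_conj_map_conj, inv_mul_cancel, map_conj_one]

/-! ### Theorem 7.3 -/

theorem card_mul_card_le_of_inf_eq_bot [Finite G] {E₁ E₂ B : Subgroup G} (h₁ : E₁ ≤ B)
    (h₂ : E₂ ≤ B) (h : E₁ ⊓ E₂ = ⊥) : Nat.card E₁ * Nat.card E₂ ≤ Nat.card B := by
  rw [← Nat.card_prod]
  refine Nat.card_le_card_of_injective
    (fun x : E₁ × E₂ => (⟨(x.1 : G) * (x.2 : G), B.mul_mem (h₁ x.1.2) (h₂ x.2.2)⟩ : B)) ?_
  rintro ⟨a, b⟩ ⟨a', b'⟩ hab
  have hab' : (a : G) * (b : G) = (a' : G) * (b' : G) := congrArg Subtype.val hab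
  have h1 : (a' : G)⁻¹ * (a : G) = (b' : G) * (b : G)⁻¹ := by
    calc (a' : G)⁻¹ * (a : G) = (a' : G)⁻¹ * ((a : G) * (b : G)) * (b : G)⁻¹ := by group
      _ = (a' : G)⁻¹ * ((a' : G) * (b' : G)) * (b : G)⁻¹ := by rw [hab']
      _ = (b' : G) * (b : G)⁻¹ := by group
  have h2 : (a' : G)⁻¹ * (a : G) ∈ E₁ ⊓ E₂ := by
    refine Subgroup.mem_inf.mpr ⟨E₁.mul_mem (E₁.inv_mem a'.2) a.2, ?_⟩
    rw [h1]
    exact E₂.mul_mem b'.2 (E₂.inv_mem b.2)
  rw [h, Subgroup.mem_bot] at h2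
  have ha : (a : G) = (a' : G) := by
    have := inv_mul_eq_one.mp h2
    exact this.symm
  have hb : (b : G) = (b' : G) := by
    rw [ha] at hab'
    exact mul_left_cancel hab'
  exact Prod.ext (Subtype.ext ha) (Subtype.ext hb)

theorem card_sup_le_of_le_normalizer [Finite G] {M N : Subgroup G}
    (h : M ≤ Subgroup.normalizer (N : Set G)) :
    Nat.card (M ⊔ N : Subgroup G) ≤ Nat.card M * Nat.card N := by
  have h1 : ((M ⊔ N : Subgroup G) : Set G) = (M : Set G) * (N : Set G) :=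
    Subgroup.coe_mul_of_left_le_normalizer_right M N h
  have h2 : Nat.card (M ⊔ N : Subgroup G) = Nat.card ((M : Set G) * (N : Set G) : Set G) := by
    rw [← h1]
    rfl
  rw [h2]
  exact Set.natCard_mul_le

theorem zpowers_le_centralizer_singleton {a b : G} (h : a * b = b * a) :
    Subgroup.zpowers a ≤ Subgroup.centralizer ({b} : Set G) := by
  rw [Subgroup.zpowers_le, Subgroup.mem_centralizer_iff]
  intro x hx
  rw [Set.mem_singleton_iff] at hx
  subst hx
  exact h.symm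

theorem isPGroup_of_exponent {p : ℕ} {E : Subgroup G} (h : ∀ b ∈ E, b ^ p = 1) : IsPGroup p E :=
  fun g => ⟨1, by rw [pow_one]; exact Subtype.ext (h g g.2)⟩

/-- Second-stage fixed-point lemma: an elementary abelian `p`-group `B` of order `> p ^ 2`
normalizing a nontrivial abelian `p'`-group `V` has, for every `b ∈ B`, an element outside `⟨b⟩`
centralizing a non-identity element of `V`. -/
theorem exists_commuting_not_mem_zpowers [Finite G] {p : ℕ} [Fact p.Prime] {B V : Subgroup G}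
    (hBc : ∀ a ∈ B, ∀ b ∈ B, a * b = b * a) (hBp : ∀ b ∈ B, b ^ p = 1)
    (hBcard : p ^ 2 < Nat.card B) (hVc : IsMulCommutative V) (hV1 : V ≠ ⊥)
    (hcop : (Nat.card V).Coprime p) (hBV : B ≤ Subgroup.normalizer (V : Set G))
    {b : G} (hb : b ∈ B) :
    ∃ d ∈ B, d ∉ Subgroup.zpowers b ∧ ∃ v ∈ V, v ≠ 1 ∧ d * v = v * d := by
  have hp : p.Prime := Fact.out
  have hpp : p < p ^ 2 := by
    have := hp.one_lt
    nlinarith
  have hzb : Nat.card (Subgroup.zpowers b) ≤ p := by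
    rw [Nat.card_zpowers]
    exact orderOf_le_of_pow_eq_one hp.pos (hBp b hb)
  -- `y ∈ B ∖ ⟨b⟩`
  have hy : ∃ y ∈ B, y ∉ Subgroup.zpowers b := by
    by_contra hcon
    push Not at hcon
    have hle : B ≤ Subgroup.zpowers b := hcon
    have := Subgroup.card_le_of_le hle
    omega
  obtain ⟨y, hyB, hyb⟩ := hy
  have hy1 : y ≠ 1 := fun h => hyb (h ▸ Subgroup.one_mem _)
  have hyo : orderOf y = p := orderOf_eq_prime (hBp y hyB) hy1
  have hzy : Nat.card (Subgroup.zpowers y) = p := by rw [Nat.card_zpowers, hyo]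
  -- `z ∈ B ∖ ⟨b⟩⟨y⟩`
  have hnorm : Subgroup.zpowers b ≤ Subgroup.normalizer (Subgroup.zpowers y : Set G) := by
    refine le_trans ?_ (Subgroup.centralizer_le_normalizer _)
    rw [Subgroup.zpowers_le, Subgroup.mem_centralizer_iff]
    intro h hh
    have h1 := zpowers_le_centralizer_singleton (hBc y hyB b hb) hh
    rw [Subgroup.mem_centralizer_iff] at h1
    exact (h1 b rfl).symm
  have hz : ∃ z ∈ B, z ∉ Subgroup.zpowers b ⊔ Subgroup.zpowers y := by
    by_contra hcon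
    push Not at hcon
    have hle : B ≤ Subgroup.zpowers b ⊔ Subgroup.zpowers y := hcon
    have h1 := Subgroup.card_le_of_le hle
    have h2 := card_sup_le_of_le_normalizer hnorm
    have h3 : Nat.card (Subgroup.zpowers b) * Nat.card (Subgroup.zpowers y) ≤ p * p := by
      rw [hzy]
      exact Nat.mul_le_mul_right p hzb
    nlinarith
  obtain ⟨z, hzB, hzby⟩ := hz
  have hz1 : z ≠ 1 := fun h => hzby (h ▸ Subgroup.one_mem _)
  have hzo : orderOf z = p := orderOf_eq_prime (hBp z hzB) hz1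
  obtain ⟨i, j, hij, v, hv, hv1, hcomm⟩ := exists_commuting_of_noncyclic (hBc y hyB z hzB)
    (hBp y hyB) (hBp z hzB) hVc hV1 hcop (hBV hyB) (hBV hzB)
  refine ⟨y ^ i * z ^ j, B.mul_mem (B.pow_mem hyB i) (B.pow_mem hzB j), ?_, v, hv, hv1, hcomm⟩
  intro hd
  by_cases hj : p ∣ j
  · have hzj : z ^ j = 1 := by
      obtain ⟨c, rfl⟩ := hj
      rw [pow_mul, hBp z hzB, one_pow]
    rw [hzj, mul_one] at hd
    have hi : ¬ p ∣ i := fun hi => hij ⟨hi, hj⟩
    have hcopi : i.Coprime (orderOf y) := by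
      rw [hyo]
      exact (Nat.Coprime.symm ((Nat.Prime.coprime_iff_not_dvd hp).mpr hi))
    obtain ⟨m, hm⟩ := exists_pow_eq_self_of_coprime hcopi
    apply hyb
    rw [← hm]
    exact Subgroup.pow_mem _ hd m
  · have hcopj : j.Coprime (orderOf z) := by
      rw [hzo]
      exact (Nat.Coprime.symm ((Nat.Prime.coprime_iff_not_dvd hp).mpr hj))
    obtain ⟨m, hm⟩ := exists_pow_eq_self_of_coprime hcopj
    apply hzby
    rw [← hm]
    refine Subgroup.pow_mem _ ?_ m
    have : z ^ j = (y ^ i)⁻¹ * (y ^ i * z ^ j) := by group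
    rw [this]
    exact Subgroup.mul_mem _
      (Subgroup.inv_mem _ (Subgroup.pow_mem _ (Subgroup.mem_sup_right (Subgroup.mem_zpowers y)) i))
      (Subgroup.mem_sup_left hd)

/-- An elementary abelian `p`-group `B` of order `> p ^ 2` normalizing a nontrivial `q`-group `Q`
(`q ≠ p`) has a subgroup `E` of order `> p` centralizing a non-identity element of `Q`. -/
theorem exists_rank_two_centralizing [Finite G] {p q : ℕ} [Fact p.Prime] [Fact q.Prime]
    (hpq : p ≠ q) {B Q : Subgroup G}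
    (hBc : ∀ a ∈ B, ∀ b ∈ B, a * b = b * a) (hBp : ∀ b ∈ B, b ^ p = 1)
    (hBcard : p ^ 2 < Nat.card B) (hQ : IsPGroup q Q) (hQ1 : Q ≠ ⊥)
    (hBQ : B ≤ Subgroup.normalizer (Q : Set G)) :
    ∃ E : Subgroup G, E ≤ B ∧ p < Nat.card E ∧
      ∃ v ∈ Q, v ≠ 1 ∧ E ≤ Subgroup.centralizer ({v} : Set G) := by
  have hp : p.Prime := Fact.out
  have hq : q.Prime := Fact.out
  have hpp : p < p ^ 2 := by
    have := hp.one_lt
    nlinarith
  set V := Q ⊓ Subgroup.centralizer (Q : Set G) with hV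
  have hV1 : V ≠ ⊥ := inf_centralizer_ne_bot hQ hQ1
  have hVc : IsMulCommutative V := isMulCommutative_inf_centralizer Q
  have hcopQ : ∀ W : Subgroup G, W ≤ Q → (Nat.card W).Coprime p := by
    intro W hW
    obtain ⟨n, hn⟩ := IsPGroup.iff_card.mp (hQ.to_le hW)
    rw [hn]
    exact Nat.Coprime.pow_left n ((Nat.coprime_primes hq hp).mpr (Ne.symm hpq))
  have hBV : B ≤ Subgroup.normalizer (V : Set G) :=
    hBQ.trans (normalizer_le_normalizer_inf_centralizer Q)
  obtain ⟨b, hbB, hb1, v₀, hv₀, hv₀1, hbv₀⟩ :=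
    exists_commuting_of_card_gt hBc hBp (lt_trans hpp hBcard) hVc hV1 (hcopQ V inf_le_left) hBV
  have hbo : orderOf b = p := orderOf_eq_prime (hBp b hbB) hb1
  set V₁ := V ⊓ Subgroup.centralizer ({b} : Set G) with hV₁
  have hV₁1 : V₁ ≠ ⊥ := by
    intro h
    have : v₀ ∈ V₁ := by
      refine Subgroup.mem_inf.mpr ⟨hv₀, ?_⟩
      rw [Subgroup.mem_centralizer_iff]
      intro x hx
      rw [Set.mem_singleton_iff] at hx
      subst hx
      exact hbv₀
    rw [h, Subgroup.mem_bot] at this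
    exact hv₀1 this
  have hV₁c : IsMulCommutative V₁ := by
    refine ⟨⟨fun a c => ?_⟩⟩
    have ha : (a : G) ∈ V := (Subgroup.mem_inf.mp a.2).1
    have hc : (c : G) ∈ V := (Subgroup.mem_inf.mp c.2).1
    have := hVc.is_comm.comm ⟨a, ha⟩ ⟨c, hc⟩
    have h2 : (a : G) * (c : G) = (c : G) * (a : G) := congrArg Subtype.val this
    exact Subtype.ext h2
  have hBcb : B ≤ Subgroup.centralizer ({b} : Set G) := by
    intro g hg
    rw [Subgroup.mem_centralizer_iff]
    intro x hx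
    rw [Set.mem_singleton_iff] at hx
    subst hx
    exact hBc x hbB g hg
  have hBV₁ : B ≤ Subgroup.normalizer (V₁ : Set G) :=
    (le_inf hBV (hBcb.trans Subgroup.le_normalizer)).trans
      Subgroup.inf_normalizer_le_normalizer_inf
  obtain ⟨d, hdB, hdb, v, hv, hv1, hdv⟩ :=
    exists_commuting_not_mem_zpowers hBc hBp hBcard hV₁c hV₁1
      (hcopQ V₁ (inf_le_left.trans inf_le_left)) hBV₁ hbB
  have hbv : b * v = v * b := by
    have := (Subgroup.mem_inf.mp hv).2
    rw [Subgroup.mem_centralizer_iff] at this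
    exact this b rfl
  refine ⟨Subgroup.zpowers b ⊔ Subgroup.zpowers d, ?_, ?_, v,
    (Subgroup.mem_inf.mp (Subgroup.mem_inf.mp hv).1).1, hv1, ?_⟩
  · exact sup_le (Subgroup.zpowers_le.mpr hbB) (Subgroup.zpowers_le.mpr hdB)
  · have hlt : Subgroup.zpowers b < Subgroup.zpowers b ⊔ Subgroup.zpowers d := by
      refine lt_of_le_of_ne le_sup_left fun h => hdb ?_
      rw [h]
      exact Subgroup.mem_sup_right (Subgroup.mem_zpowers d)
    have := card_lt_card_of_lt hlt
    rwa [Nat.card_zpowers, hbo] at this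
  · exact sup_le (zpowers_le_centralizer_singleton hbv) (zpowers_le_centralizer_singleton hdv)

/-- Bender–Glauberman Theorem 7.3. -/
theorem trans_of_rank_three (hG : IsMinSimpleOddOrder G) [Finite G] {A : Subgroup G}
    (hA : TransitivityHypothesis A)
    (hZ : ¬ RankLE 2 ↥(A ⊓ Subgroup.centralizer (A : Set G)))
    {q : ℕ} (hq : q.Prime) (hqA : ¬ q ∣ Nat.card A) :
    ∀ Q₁ ∈ maxInvSubgroups ⊤ A {q}, ∀ Q₂ ∈ maxInvSubgroups ⊤ A {q},
      ∃ k ∈ piCoreOf (primesNotDvd (Nat.card A)) (Subgroup.centralizer (A : Set G)),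
        Q₂ = Q₁.map (MulAut.conj k).toMonoidHom := by
  have : Fact q.Prime := ⟨hq⟩
  set K := piCoreOf (primesNotDvd (Nat.card A)) (Subgroup.centralizer (A : Set G)) with hK
  obtain ⟨p, hp, B, hBZ, hBc, hBp, hBcard⟩ := exists_elementary_of_not_rankLE hZ
  have : Fact p.Prime := ⟨hp⟩
  have hpp : p < p ^ 2 := by
    have := hp.one_lt
    nlinarith
  have hBA : B ≤ A := hBZ.trans inf_le_left
  have hBCA : B ≤ Subgroup.centralizer (A : Set G) := hBZ.trans inf_le_right
  have hpA : p ∣ Nat.card A :=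
    dvd_card_of_exponent_prime hBA hBp (lt_trans hp.one_lt (lt_trans hpp hBcard))
  have hpq : p ≠ q := fun h => hqA (h ▸ hpA)
  -- a subgroup `B₃ ≤ B` of order `p ^ 3`
  have hB₃ : ∃ B₃ : Subgroup G, B₃ ≤ B ∧ Nat.card B₃ = p ^ 3 := by
    obtain ⟨n, hn⟩ := IsPGroup.iff_card.mp (isPGroup_of_exponent hBp)
    have hn3 : 3 ≤ n := by
      by_contra hlt
      have : n ≤ 2 := by omega
      have := Nat.pow_le_pow_right hp.pos this
      omega
    have hdvd : p ^ 3 ∣ Nat.card B := by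
      rw [hn]
      exact pow_dvd_pow p hn3
    obtain ⟨K₃, hK₃⟩ := Sylow.exists_subgroup_card_pow_prime p hdvd
    refine ⟨K₃.map B.subtype, ?_, ?_⟩
    · rintro x ⟨y, -, rfl⟩
      exact y.2
    · rw [Subgroup.card_map_of_injective B.subtype_injective, hK₃]
  obtain ⟨B₃, hB₃B, hB₃card⟩ := hB₃
  have hB₃c : ∀ a ∈ B₃, ∀ b ∈ B₃, a * b = b * a := fun a ha b hb => hBc a (hB₃B ha) b (hB₃B hb)
  have hB₃p : ∀ b ∈ B₃, b ^ p = 1 := fun b hb => hBp b (hB₃B hb)
  have hB₃lt : p ^ 2 < Nat.card B₃ := by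
    rw [hB₃card]
    exact Nat.pow_lt_pow_right hp.one_lt (by norm_num)
  intro Q₁ hQ₁ Q₂ hQ₂
  by_cases h1 : Q₁ = ⊥
  · refine ⟨1, K.one_mem, ?_⟩
    rw [map_conj_one]
    exact hQ₁.2 Q₂ hQ₂.1 (h1 ▸ bot_le)
  by_cases h2 : Q₂ = ⊥
  · refine ⟨1, K.one_mem, ?_⟩
    rw [map_conj_one]
    exact (hQ₂.2 Q₁ hQ₁.1 (h2 ▸ bot_le)).symm
  have hQ₁p : IsPGroup q Q₁ := isPGroup_of_isPi_singleton hQ₁.1.2.1
  have hQ₂p : IsPGroup q Q₂ := isPGroup_of_isPi_singleton hQ₂.1.2.1
  obtain ⟨E₁, hE₁B, hE₁card, v₁, hv₁Q, hv₁1, hE₁v⟩ :=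
    exists_rank_two_centralizing hpq hB₃c hB₃p hB₃lt hQ₁p h1 ((hB₃B.trans hBA).trans hQ₁.1.2.2)
  obtain ⟨E₂, hE₂B, hE₂card, v₂, hv₂Q, hv₂1, hE₂v⟩ :=
    exists_rank_two_centralizing hpq hB₃c hB₃p hB₃lt hQ₂p h2 ((hB₃B.trans hBA).trans hQ₂.1.2.2)
  -- `E₁ ∩ E₂ ≠ 1`
  have hcardE : ∀ E : Subgroup G, E ≤ B₃ → p < Nat.card E → p ^ 2 ≤ Nat.card E := by
    intro E hE hlt
    obtain ⟨n, hn⟩ := IsPGroup.iff_card.mp
      (isPGroup_of_exponent (p := p) (E := E) fun b hb => hB₃p b (hE hb))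
    rw [hn] at hlt ⊢
    have hn2 : 2 ≤ n := by
      by_contra hlt'
      have : n ≤ 1 := by omega
      have := Nat.pow_le_pow_right hp.pos this
      rw [pow_one] at this
      omega
    exact Nat.pow_le_pow_right hp.pos hn2
  have hinf : E₁ ⊓ E₂ ≠ ⊥ := by
    intro h
    have h3 := card_mul_card_le_of_inf_eq_bot hE₁B hE₂B h
    have h4 := hcardE E₁ hE₁B hE₁card
    have h5 := hcardE E₂ hE₂B hE₂card
    rw [hB₃card] at h3
    have h6 : p ^ 2 * p ^ 2 ≤ p ^ 3 := le_trans (Nat.mul_le_mul h4 h5) h3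
    have h7 : p ^ 3 < p ^ 2 * p ^ 2 := by
      rw [← pow_add]
      exact Nat.pow_lt_pow_right hp.one_lt (by norm_num)
    omega
  obtain ⟨b, hb⟩ := Subgroup.ne_bot_iff_exists_ne_one.mp hinf
  have hb1 : (b : G) ≠ 1 := fun h => hb (Subtype.ext h)
  have hbE₁ : (b : G) ∈ E₁ := (Subgroup.mem_inf.mp b.2).1
  have hbE₂ : (b : G) ∈ E₂ := (Subgroup.mem_inf.mp b.2).2
  have hbB : (b : G) ∈ B := hB₃B (hE₁B hbE₁)
  have hH : Subgroup.centralizer ({(b : G)} : Set G) ≠ ⊤ :=
    minSimple_centralizer_singleton_ne_top hG hb1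
  have hAH : A ≤ Subgroup.centralizer ({(b : G)} : Set G) := by
    intro a ha
    rw [Subgroup.mem_centralizer_iff]
    intro h hh
    rw [Set.mem_singleton_iff] at hh
    subst hh
    exact (Subgroup.mem_centralizer_iff.mp (hBCA hbB) a ha).symm
  have hmem : ∀ (E Q : Subgroup G) (v : G), (b : G) ∈ E → v ∈ Q → v ≠ 1 →
      E ≤ Subgroup.centralizer ({v} : Set G) →
      Subgroup.centralizer ({(b : G)} : Set G) ⊓ Q ≠ ⊥ := by
    intro E Q v hbE hvQ hv1 hEv h
    have hvm : v ∈ Subgroup.centralizer ({(b : G)} : Set G) ⊓ Q := by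
      refine Subgroup.mem_inf.mpr ⟨?_, hvQ⟩
      rw [Subgroup.mem_centralizer_iff]
      intro x hx
      rw [Set.mem_singleton_iff] at hx
      subst hx
      have := hEv hbE
      rw [Subgroup.mem_centralizer_iff] at this
      exact (this v rfl).symm
    rw [h, Subgroup.mem_bot] at hvm
    exact hv1 hvm
  exact conj_of_meet_proper hG hA hq hqA Q₁ Q₂ hQ₁ hQ₂ _ hH hAH
    (hmem E₁ Q₁ v₁ hbE₁ hv₁Q hv₁1 hE₁v) (hmem E₂ Q₂ v₂ hbE₂ hv₂Q hv₂1 hE₂v)

end Cfsg.Agent.Lib.Helper30
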