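import Mathlib
import Cfsg.Agent.H74.TsDefs

/-!
# TS-K2 (helper74's project TS for S2948)

`Q ⊴ X` a 2-group, `Q ≤ U`, `|U : Q| = 3`, `J ≤ N_X(U)`, `[U, J] Q = U`.  Then
`K := ⟨g ∈ U | g of odd order⟩` is generated by its elements of odd order, `[K, J] = K`,
`|K : K ⊓ Q| = 3`, `Q ≤ N_X(K)` and `K Q = U`.
-/

set_option autoImplicit false

universe u

namespace Cfsg.Agent.Lib.Helper30.Ts

open Cfsg Cfsg.Agent.H74.Ts

open scoped commutatorElement

/-- If `g ^ m` and `g ^ n` lie in `H` for coprime `m`, `n`, then `g ∈ H`. -/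
theorem mem_of_pow_mem_of_coprime {X : Type u} [Group X] (H : Subgroup X) {g : X} {m n : ℕ}
    (hmn : Nat.Coprime m n) (hm : g ^ m ∈ H) (hn : g ^ n ∈ H) : g ∈ H := by
  have h1 : ((Nat.gcd m n : ℕ) : ℤ) = (m : ℤ) * Nat.gcdA m n + (n : ℤ) * Nat.gcdB m n :=
    Nat.gcd_eq_gcd_ab m n
  rw [hmn.gcd_eq_one] at h1
  have h2 : g = (g ^ m) ^ (Nat.gcdA m n) * (g ^ n) ^ (Nat.gcdB m n) := by
    rw [← zpow_natCast g m, ← zpow_natCast g n, ← zpow_mul, ← zpow_mul, ← zpow_add, ← h1]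
    simp
  rw [h2]
  exact mul_mem (zpow_mem hm _) (zpow_mem hn _)

/-- The subgroup generated by the elements of odd order of `U`. -/
def oddGen {X : Type u} [Group X] (U : Subgroup X) : Subgroup X :=
  Subgroup.closure {g : X | g ∈ U ∧ Odd (orderOf g)}

theorem oddGen_le {X : Type u} [Group X] (U : Subgroup X) : oddGen U ≤ U :=
  (Subgroup.closure_le U).mpr fun _ hg => hg.1

theorem mem_oddGen {X : Type u} [Group X] {U : Subgroup X} {g : X} (hg : g ∈ U)
    (ho : Odd (orderOf g)) : g ∈ oddGen U :=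
  Subgroup.subset_closure ⟨hg, ho⟩

theorem closure_oddGen {X : Type u} [Group X] (U : Subgroup X) :
    Subgroup.closure {g : X | g ∈ oddGen U ∧ Odd (orderOf g)} = oddGen U := by
  apply le_antisymm
  · exact (Subgroup.closure_le _).mpr fun _ hg => hg.1
  · refine (Subgroup.closure_le _).mpr ?_
    intro g hg
    exact Subgroup.subset_closure ⟨mem_oddGen hg.1 hg.2, hg.2⟩

/-- Conjugation by an element normalizing `U` maps `oddGen U` into itself. -/
theorem conj_mem_oddGen {X : Type u} [Group X] (U : Subgroup X) (a : X)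
    (ha : ∀ u ∈ U, a * u * a⁻¹ ∈ U) : ∀ h ∈ oddGen U, a * h * a⁻¹ ∈ oddGen U := by
  intro h hh
  have hh' : h ∈ Subgroup.closure {g : X | g ∈ U ∧ Odd (orderOf g)} := hh
  clear hh
  induction hh' using Subgroup.closure_induction with
  | mem z hz =>
    refine mem_oddGen (ha z hz.1) ?_
    have : orderOf (a * z * a⁻¹) = orderOf z := by
      have := (MulAut.conj a).orderOf_eq z
      rwa [MulAut.conj_apply] at this
    rw [this]
    exact hz.2
  | one => simp
  | mul x y _ _ hx hy =>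
    have h1 : a * (x * y) * a⁻¹ = (a * x * a⁻¹) * (a * y * a⁻¹) := by group
    rw [h1]
    exact mul_mem hx hy
  | inv x _ hx =>
    have h1 : a * x⁻¹ * a⁻¹ = (a * x * a⁻¹)⁻¹ := by group
    rw [h1]
    exact inv_mem hx

theorem normalizer_le_normalizer_oddGen {X : Type u} [Group X] (U : Subgroup X) :
    Subgroup.normalizer (U : Set X) ≤ Subgroup.normalizer ((oddGen U : Subgroup X) : Set X) := by
  intro a ha
  have key : ∀ b ∈ Subgroup.normalizer (U : Set X), ∀ h ∈ oddGen U, b * h * b⁻¹ ∈ oddGen U := by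
    intro b hb
    apply conj_mem_oddGen
    intro u hu
    exact (Subgroup.mem_normalizer_iff.mp hb u).mp hu
  rw [Subgroup.mem_normalizer_iff]
  intro h
  constructor
  · exact key a ha h
  · intro hh
    have := key a⁻¹ (inv_mem ha) _ hh
    have e : a⁻¹ * (a * h * a⁻¹) * a⁻¹⁻¹ = h := by group
    rwa [e] at this

/-- `K` normalizes `⁅K, J⁆`. -/
theorem conj_mem_commutator_left {X : Type u} [Group X] (K J : Subgroup X) (k' : X)
    (hk' : k' ∈ K) : ∀ w ∈ ⁅K, J⁆, k' * w * k'⁻¹ ∈ ⁅K, J⁆ := by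
  intro w hw
  have hw' : w ∈ Subgroup.closure {z | ∃ g₁ ∈ K, ∃ g₂ ∈ J, ⁅g₁, g₂⁆ = z} := hw
  clear hw
  induction hw' using Subgroup.closure_induction with
  | mem z hz =>
    obtain ⟨k, hk, j, hj, rfl⟩ := hz
    have h1 : k' * ⁅k, j⁆ * k'⁻¹ = ⁅k' * k, j⁆ * ⁅k', j⁆⁻¹ := by
      simp only [commutatorElement_def]
      group
    rw [h1]
    exact mul_mem (Subgroup.commutator_mem_commutator (mul_mem hk' hk) hj)
      (inv_mem (Subgroup.commutator_mem_commutator hk' hj))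
  | one => simp
  | mul a b _ _ ha hb =>
    have h1 : k' * (a * b) * k'⁻¹ = (k' * a * k'⁻¹) * (k' * b * k'⁻¹) := by group
    rw [h1]
    exact mul_mem ha hb
  | inv a _ ha =>
    have h1 : k' * a⁻¹ * k'⁻¹ = (k' * a * k'⁻¹)⁻¹ := by group
    rw [h1]
    exact inv_mem ha

/-- If `q` normalizes `N` and `n ∈ N` then `(n q)^j ∈ N q^j`. -/
theorem mul_pow_mem {X : Type u} [Group X] (N : Subgroup X) {n q : X} (hn : n ∈ N)
    (hq : ∀ j : ℕ, ∀ w ∈ N, q ^ j * w * (q ^ j)⁻¹ ∈ N) :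
    ∀ j : ℕ, (n * q) ^ j * (q ^ j)⁻¹ ∈ N := by
  intro j
  induction j with
  | zero => simp
  | succ j ih =>
    have e : (n * q) ^ (j + 1) * (q ^ (j + 1))⁻¹ =
        ((n * q) ^ j * (q ^ j)⁻¹) * (q ^ j * n * (q ^ j)⁻¹) := by
      rw [pow_succ, pow_succ]
      group
    rw [e]
    exact mul_mem ih (hq j n hn)

theorem k2 : StK2.{u} := by
  intro X _ _ Q J U hQn hQ2 hQU hidx hJU hUJ
  have hQn' := hQn
  set K : Subgroup X := oddGen U with hKdef
  have hKU : K ≤ U := oddGen_le U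
  have hNK : Subgroup.normalizer (U : Set X) ≤ Subgroup.normalizer ((K : Subgroup X) : Set X) :=
    normalizer_le_normalizer_oddGen U
  have hUN : U ≤ Subgroup.normalizer (U : Set X) := Subgroup.le_normalizer
  have hQK : Q ≤ Subgroup.normalizer ((K : Subgroup X) : Set X) := (hQU.trans hUN).trans hNK
  have hJK : J ≤ Subgroup.normalizer ((K : Subgroup X) : Set X) := hJU.trans hNK
  -- cubes of elements of `U` lie in `Q`
  have hcube : ∀ x ∈ U, x ^ 3 ∈ Q := by
    intro x hx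
    have := Subgroup.pow_relIndex_mem Q hx
    rwa [hidx] at this
  -- 2-power killing elements of `Q`
  have hQpow : ∀ y ∈ Q, ∃ k : ℕ, y ^ (2 ^ k) = 1 := by
    intro y hy
    obtain ⟨k, hk⟩ := hQ2 ⟨y, hy⟩
    refine ⟨k, ?_⟩
    have := congrArg (Subtype.val) hk
    simpa using this
  -- `K ⊔ Q = U`
  have hsup : K ⊔ Q = U := by
    apply le_antisymm (sup_le hKU hQU)
    intro x hx
    obtain ⟨k, hk⟩ := hQpow (x ^ 3) (hcube x hx)
    have h3 : (x ^ (2 ^ k)) ^ 3 = 1 := by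
      rw [← pow_mul, mul_comm, pow_mul]
      exact hk
    have hodd : Odd (orderOf (x ^ (2 ^ k))) := by
      have hd : orderOf (x ^ (2 ^ k)) ∣ 3 := orderOf_dvd_of_pow_eq_one h3
      exact Odd.of_dvd_nat (by decide) hd
    have hxK : x ^ (2 ^ k) ∈ K := mem_oddGen (pow_mem hx _) hodd
    have hcop : Nat.Coprime 3 (2 ^ k) := Nat.Coprime.pow_right k (by decide)
    exact mem_of_pow_mem_of_coprime (K ⊔ Q) hcop (Subgroup.mem_sup_right (hcube x hx))
      (Subgroup.mem_sup_left hxK)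
  -- index
  have hrel : (K ⊓ Q).relIndex K = 3 := by
    rw [Subgroup.inf_relIndex_left, ← Subgroup.relIndex_sup_right, hsup]
    exact hidx
  -- `[K, J] ≤ K`
  have hcomm_le : ⁅K, J⁆ ≤ K := by
    rw [Subgroup.commutator_le]
    intro k hk j hj
    have hj' : j * k⁻¹ * j⁻¹ ∈ K :=
      (Subgroup.mem_normalizer_iff.mp (hJK hj) k⁻¹).mp (inv_mem hk)
    have e : ⁅k, j⁆ = k * (j * k⁻¹ * j⁻¹) := by
      simp only [commutatorElement_def]
      group
    rw [e]
    exact mul_mem hk hj'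
  -- `[U, J] ≤ [K, J] ⊔ Q`
  have hUJle : ⁅U, J⁆ ≤ ⁅K, J⁆ ⊔ Q := by
    rw [Subgroup.commutator_le]
    intro u hu j hj
    have hu' : u ∈ ((K ⊔ Q : Subgroup X) : Set X) := by
      rw [hsup]
      exact hu
    rw [Subgroup.mul_normal] at hu'
    obtain ⟨k, hk, q, hq, rfl⟩ := Set.mem_mul.mp hu'
    have e : ⁅k * q, j⁆ = (k * (q * (j * q⁻¹ * j⁻¹)) * k⁻¹) * ⁅k, j⁆ := by
      simp only [commutatorElement_def]
      group
    rw [e]
    refine mul_mem (Subgroup.mem_sup_right ?_)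
      (Subgroup.mem_sup_left (Subgroup.commutator_mem_commutator hk hj))
    exact hQn.conj_mem _ (mul_mem hq (hQn.conj_mem _ (inv_mem hq) j)) k
  have hKle : K ≤ ⁅K, J⁆ ⊔ Q := by
    calc K ≤ U := hKU
      _ = ⁅U, J⁆ ⊔ Q := hUJ.symm
      _ ≤ ⁅K, J⁆ ⊔ Q := sup_le hUJle le_sup_right
  -- `K ≤ [K, J]`
  have hK_le_comm : K ≤ ⁅K, J⁆ := by
    have hgen : ∀ g ∈ K, Odd (orderOf g) → g ∈ ⁅K, J⁆ := by
      intro g hg hodd
      have hg' : g ∈ ((⁅K, J⁆ ⊔ Q : Subgroup X) : Set X) := hKle hg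
      rw [Subgroup.mul_normal] at hg'
      obtain ⟨n, hn, q, hq, rfl⟩ := Set.mem_mul.mp hg'
      have hnK : n ∈ K := hcomm_le hn
      have hqK : q ∈ K := by
        have : q = n⁻¹ * (n * q) := by group
        rw [this]
        exact mul_mem (inv_mem hnK) hg
      obtain ⟨k, hk⟩ := hQpow q hq
      have h1 := mul_pow_mem ⁅K, J⁆ hn
        (fun j w hw => conj_mem_commutator_left K J (q ^ j) (pow_mem hqK j) w hw) (2 ^ k)
      rw [hk] at h1
      simp only [inv_one, mul_one] at h1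
      have h2 : (n * q) ^ (orderOf (n * q)) ∈ ⁅K, J⁆ := by
        rw [pow_orderOf_eq_one]
        exact one_mem _
      have hcop : Nat.Coprime (2 ^ k) (orderOf (n * q)) :=
        Nat.Coprime.pow_left k (Nat.coprime_two_left.mpr hodd)
      exact mem_of_pow_mem_of_coprime ⁅K, J⁆ hcop h1 h2
    have hcl : Subgroup.closure {g : X | g ∈ K ∧ Odd (orderOf g)} = K := closure_oddGen U
    intro g hg
    have hg' : g ∈ Subgroup.closure {g : X | g ∈ K ∧ Odd (orderOf g)} := by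
      rw [hcl]
      exact hg
    exact (Subgroup.closure_le _).mpr (fun g hg => hgen g hg.1 hg.2) hg'
  exact ⟨K, closure_oddGen U, le_antisymm hcomm_le hK_le_comm, hrel, hQK, hsup⟩

example : StK2.{u} := k2

end Cfsg.Agent.Lib.Helper30.Ts
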