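import Mathlib
import Cfsg.Prelude.Def_Classical
import Cfsg.Agent.H77.UfDefs
import Cfsg.Agent.H77.UfData
import Cfsg.Agent.H77.UfDefs3

set_option autoImplicit false

/-!
# UF-EXASM (helper30, parallel take for helper77's S2149, existence half)

The subgroup `K` of the elements of `SU₃(5)` whose matrix preserves the 105 listed points contains
a dihedral pair, an extraspecial triple, elements of order 5 and 7 and the centre, so
`7560 ∣ |K|`; its image `H` in `PSU₃(5)` has `2520 ∣ |H|` and `H ≠ ⊤`.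
-/

namespace Cfsg.Agent.Lib.Helper30.Uf

open Matrix Cfsg.Agent.H77.Uf

theorem su_ext (g h : SU35) (e : g.1.1 = h.1.1) : g = h := Subtype.ext (Subtype.ext e)

theorem su_mul (g h : SU35) : (g * h).1.1 = g.1.1 * h.1.1 := rfl

theorem su_one : (1 : SU35).1.1 = 1 := rfl

theorem su_pow (g : SU35) (n : ℕ) : (g ^ n).1.1 = g.1.1 ^ n := by
  induction n with
  | zero => rw [pow_zero, pow_zero]; rfl
  | succ n ih => rw [pow_succ, pow_succ, su_mul, ih]

theorem exAsm (hMem : StMem) (hPres : StPresAll) (hNot : StNotPres) (hRel : StRel)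
    (hSub : StSubgrp) (hCP : StCenterPres) (h8 : St8.{0}) (h27 : St27.{0})
    (hMC : StMapCard.{0}) (hZ3 : StCenter3) : StExists35 := by
  obtain ⟨K, hK⟩ := hSub
  obtain ⟨⟨r, hr⟩, ⟨s, hs⟩, ⟨x, hx⟩, ⟨y, hy⟩, ⟨a5, ha5⟩, ⟨a7, ha7⟩, ⟨z1, hz1⟩, ⟨g0, hg0⟩⟩ := hMem
  obtain ⟨pR, pS, pD, pP, pA5, pA7, pZ⟩ := hPres
  obtain ⟨rel1, rel2, rel3, rel4, rel5, rel6, rel7, rel8, rel9, rel10, rel11, rel12, rel13⟩ :=
    hRel
  have hrK : r ∈ K := (hK r).mpr (by rw [hr]; exact pR)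
  have hsK : s ∈ K := (hK s).mpr (by rw [hs]; exact pS)
  have hxK : x ∈ K := (hK x).mpr (by rw [hx]; exact pD)
  have hyK : y ∈ K := (hK y).mpr (by rw [hy]; exact pP)
  have ha5K : a5 ∈ K := (hK a5).mpr (by rw [ha5]; exact pA5)
  have ha7K : a7 ∈ K := (hK a7).mpr (by rw [ha7]; exact pA7)
  have hzK : z1 ∈ K := (hK z1).mpr (by rw [hz1]; exact pZ)
  -- relations in `SU35`
  have r4 : r ^ 4 = 1 := su_ext _ _ (by rw [su_pow, hr, rel1]; rfl)
  have r2 : r ^ 2 ≠ 1 := by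
    intro h
    apply rel2
    have h1 := congrArg (fun g : SU35 => g.1.1) h
    simp only [su_pow, hr] at h1
    exact h1
  have s2 : s ^ 2 = 1 := su_ext _ _ (by rw [su_pow, hs, rel3]; rfl)
  have srs : s * r = r ^ 3 * s := su_ext _ _ (by
    rw [su_mul, su_mul, su_pow, hs, hr, rel4])
  have srs' : s * r * s⁻¹ = r⁻¹ := by
    rw [srs, mul_assoc, mul_inv_cancel, mul_one]
    apply eq_inv_of_mul_eq_one_left
    rw [← pow_succ]
    exact r4
  have x3 : x ^ 3 = 1 := su_ext _ _ (by rw [su_pow, hx, rel5]; rfl)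
  have y3 : y ^ 3 = 1 := su_ext _ _ (by rw [su_pow, hy, rel6]; rfl)
  have yx : y * x = x * z1 * y := su_ext _ _ (by
    rw [su_mul, su_mul, su_mul, hy, hx, hz1, rel7])
  have yx' : y * x * y⁻¹ = x * z1 := by
    rw [yx, mul_assoc, mul_inv_cancel, mul_one]
  have z1ne : z1 ≠ 1 := by
    intro h
    apply rel8
    have h1 := congrArg (fun g : SU35 => g.1.1) h
    simp only [hz1] at h1
    exact h1
  have z1c : ∀ g : SU35, z1 * g = g * z1 := fun g => su_ext _ _ (by
    rw [su_mul, su_mul, hz1]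
    exact rel9 _)
  have a55 : a5 ^ 5 = 1 := su_ext _ _ (by rw [su_pow, ha5, rel10]; rfl)
  have a5ne : a5 ≠ 1 := by
    intro h
    apply rel11
    have h1 := congrArg (fun g : SU35 => g.1.1) h
    simp only [ha5] at h1
    exact h1
  have a77 : a7 ^ 7 = 1 := su_ext _ _ (by rw [su_pow, ha7, rel12]; rfl)
  have a7ne : a7 ≠ 1 := by
    intro h
    apply rel13
    have h1 := congrArg (fun g : SU35 => g.1.1) h
    simp only [ha7] at h1
    exact h1
  haveI : Finite SU35 :=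
    Finite.of_injective (fun g : SU35 => g.1.1) (fun g h e => su_ext g h e)
  haveI : Fact (Nat.Prime 7) := ⟨by norm_num⟩
  -- the four divisibilities
  have d8 : 8 ∣ Nat.card K :=
    h8 (G := ↥K) ⟨r, hrK⟩ ⟨s, hsK⟩ (Subtype.ext r4) (fun h => r2 (congrArg Subtype.val h))
      (Subtype.ext s2) (Subtype.ext srs')
  have d27 : 27 ∣ Nat.card K :=
    h27 (G := ↥K) ⟨x, hxK⟩ ⟨y, hyK⟩ ⟨z1, hzK⟩ (Subtype.ext x3) (Subtype.ext y3)
      (fun h => z1ne (congrArg Subtype.val h)) (fun g => Subtype.ext (z1c g.1))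
      (Subtype.ext yx')
  have d5 : 5 ∣ Nat.card K := by
    have h1 : orderOf a5 = 5 := orderOf_eq_prime a55 a5ne
    have h2 := Subgroup.orderOf_dvd_natCard K ha5K
    rwa [h1] at h2
  have d7 : 7 ∣ Nat.card K := by
    have h1 : orderOf a7 = 7 := orderOf_eq_prime a77 a7ne
    have h2 := Subgroup.orderOf_dvd_natCard K ha7K
    rwa [h1] at h2
  have d216 : 216 ∣ Nat.card K :=
    Nat.Coprime.mul_dvd_of_dvd_of_dvd (by norm_num : Nat.Coprime 8 27) d8 d27
  have d1080 : 1080 ∣ Nat.card K :=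
    Nat.Coprime.mul_dvd_of_dvd_of_dvd (by norm_num : Nat.Coprime 216 5) d216 d5
  have d7560 : 7560 ∣ Nat.card K :=
    Nat.Coprime.mul_dvd_of_dvd_of_dvd (by norm_num : Nat.Coprime 1080 7) d1080 d7
  have hcen : Subgroup.center SU35 ≤ K := fun g hg => (hK g).mpr (hCP g hg)
  obtain ⟨hcard, hne⟩ := hMC (S := SU35) K hcen
  have hZ3' : Nat.card (Subgroup.center SU35) = 3 := hZ3
  rw [hZ3'] at hcard
  refine ⟨K.map (QuotientGroup.mk' (Subgroup.center SU35)), hne ?_, ?_⟩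
  · intro htop
    apply hNot
    have h1 : g0 ∈ K := by rw [htop]; exact Subgroup.mem_top _
    have h2 := (hK g0).mp h1
    rw [hg0] at h2
    exact h2
  · rw [hcard] at d7560
    exact Nat.dvd_of_mul_dvd_mul_left (by norm_num : 0 < 3) (by simpa using d7560)

example (hMem : StMem) (hPres : StPresAll) (hNot : StNotPres) (hRel : StRel)
    (hSub : StSubgrp) (hCP : StCenterPres) (h8 : St8.{0}) (h27 : St27.{0})
    (hMC : StMapCard.{0}) (hZ3 : StCenter3) : Cfsg.Agent.H77.Uf.StExists35 :=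
  exAsm hMem hPres hNot hRel hSub hCP h8 h27 hMC hZ3

end Cfsg.Agent.Lib.Helper30.Uf
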