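import Mathlib
import Cfsg.Agent.H77.UfDefs
import Cfsg.Agent.H54.PmFisher

set_option autoImplicit false

/-!
# UF-TRANSDVD (helper30, for helper77's S2149)

For a 2-transitive action of `S` on `Ω` (at least 3 points), a subgroup `H` of `S / Z(S)` has
index at least `|Ω|` (its preimage is intransitive: Fisher's inequality) or order divisible by
`|Ω|` (its preimage is transitive and the centre acts trivially).
-/

universe u v

namespace Cfsg.Agent.Lib.Helper30.Uf

/-- The centre of a group acting 2-transitively on at least 3 points acts trivially. -/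
theorem center_smul_eq {S : Type u} [Group S] {Ω : Type v} [Finite Ω] [MulAction S Ω]
    (h2 : Cfsg.Agent.H77.Uf.TwoTrans S Ω) (h3 : 3 ≤ Nat.card Ω) :
    ∀ z ∈ Subgroup.center S, ∀ q : Ω, z • q = q := by
  classical
  haveI := Fintype.ofFinite Ω
  intro z hz q
  by_contra hne
  obtain ⟨w, hw1, hw2⟩ : ∃ w : Ω, w ≠ q ∧ w ≠ z • q := by
    by_contra hcon
    push Not at hcon
    have hsub : (Finset.univ : Finset Ω) ⊆ {q, z • q} := by
      intro w _
      rw [Finset.mem_insert, Finset.mem_singleton]
      by_cases hwq : w = q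
      · left; exact hwq
      · right; exact hcon w hwq
    have hle : Nat.card Ω ≤ 2 := by
      rw [Nat.card_eq_fintype_card, ← Finset.card_univ]
      exact (Finset.card_le_card hsub).trans Finset.card_le_two
    omega
  obtain ⟨g, hg1, hg2⟩ := h2 q (z • q) q w (fun h => hne h.symm) (fun h => hw1 h.symm)
  apply hw2
  have hzg : g * z = z * g := Subgroup.mem_center_iff.mp hz g
  rw [← hg2, smul_smul, hzg, mul_smul, hg1]

theorem transDvd : Cfsg.Agent.H77.Uf.StTransDvd.{u, v} := by
  intro S _ _ Ω _ _ h2 h3 H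
  classical
  obtain ⟨Z, hZ⟩ : ∃ Z : Subgroup S, Z = Subgroup.center S := ⟨_, rfl⟩
  haveI hZn : Z.Normal := by rw [hZ]; infer_instance
  obtain ⟨Ht, hHt⟩ : ∃ Ht : Subgroup S,
      Ht = H.comap (QuotientGroup.mk' (Subgroup.center S)) := ⟨_, rfl⟩
  have hidx : Ht.index = H.index := by
    rw [hHt]
    exact Subgroup.index_comap_of_surjective H (QuotientGroup.mk'_surjective _)
  have hZHt : Subgroup.center S ≤ Ht := by
    intro z hz
    rw [hHt]
    show QuotientGroup.mk' (Subgroup.center S) z ∈ H
    have h1 : QuotientGroup.mk' (Subgroup.center S) z = 1 :=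
      (QuotientGroup.eq_one_iff z).mpr hz
    rw [h1]
    exact one_mem H
  have hcardHt : Nat.card Ht = Nat.card (Subgroup.center S) * Nat.card H := by
    have e1 := Subgroup.card_mul_index Ht
    have e2 := Subgroup.card_mul_index H
    have e3 := Subgroup.card_eq_card_quotient_mul_card_subgroup (Subgroup.center S)
    have hpos : 0 < H.index := Nat.pos_of_ne_zero Subgroup.index_ne_zero_of_finite
    rw [hidx] at e1
    have h4 : Nat.card Ht * H.index
        = (Nat.card (Subgroup.center S) * Nat.card H) * H.index := by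
      rw [e1, e3, ← e2]
      ring
    exact Nat.eq_of_mul_eq_mul_right hpos h4
  obtain ⟨p⟩ : Nonempty Ω := by
    rw [← Finite.card_pos_iff]
    omega
  by_cases hO : MulAction.orbit ↥Ht p = Set.univ
  · right
    have htriv := center_smul_eq h2 h3
    have hoi : Nat.card (MulAction.orbit ↥Ht p) = (MulAction.stabilizer ↥Ht p).index :=
      Nat.card_congr (MulAction.orbitEquivQuotientStabilizer ↥Ht p)
    have hos := Subgroup.card_mul_index (MulAction.stabilizer ↥Ht p)
    have hcardO : Nat.card (MulAction.orbit ↥Ht p) = Nat.card Ω := by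
      rw [hO]
      exact Nat.card_congr (Equiv.Set.univ Ω)
    rw [← hoi, hcardO] at hos
    have hZ' : (Subgroup.center S).subgroupOf Ht ≤ MulAction.stabilizer ↥Ht p := by
      intro x hx
      rw [MulAction.mem_stabilizer_iff]
      show (x : S) • p = p
      exact htriv x (Subgroup.mem_subgroupOf.mp hx) p
    have hdvd := Subgroup.card_dvd_of_le hZ'
    have hcardZ' : Nat.card ((Subgroup.center S).subgroupOf Ht)
        = Nat.card (Subgroup.center S) :=
      Nat.card_congr (Subgroup.subgroupOfEquivOfLe hZHt).toEquiv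
    rw [hcardZ'] at hdvd
    obtain ⟨m, hm⟩ := hdvd
    rw [hm, hcardHt] at hos
    have hZpos : 0 < Nat.card (Subgroup.center S) := Nat.card_pos
    refine ⟨m, ?_⟩
    have h5 : Nat.card (Subgroup.center S) * Nat.card H
        = Nat.card (Subgroup.center S) * (Nat.card Ω * m) := by
      rw [← hos]
      ring
    exact Nat.eq_of_mul_eq_mul_left hZpos h5
  · left
    rw [← hidx]
    refine Cfsg.Agent.H54.Pm.fisher_index h2 Ht (MulAction.orbit ↥Ht p)
      ⟨p, MulAction.mem_orbit_self p⟩ hO ?_
    intro h hh q hq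
    obtain ⟨k, rfl⟩ := hq
    refine ⟨⟨h, hh⟩ * k, ?_⟩
    show ((⟨h, hh⟩ : ↥Ht) * k) • p = h • (k • p)
    rw [mul_smul]
    rfl

example : Cfsg.Agent.H77.Uf.StTransDvd.{u, v} := transDvd

end Cfsg.Agent.Lib.Helper30.Uf
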